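import Groth.Agent.CAlg.K90.FlatC2
import Groth.Agent.FibDim.K582.RingDim
import Groth.Agent.Sga2lef.H75.FlatConn
import Groth.Agent.Sga2lef.H99.ClosedFib

/-!
# The condition `c₂` and completion for henselian local rings
-/

set_option autoImplicit false
universe u

namespace K90.C2Cpl

open IsLocalRing TensorProduct K90.FlatC2

/-- `c₂` descends along flat local homomorphisms with `m_R T = m_T`. -/
theorem descend {R T : Type u} [CommRing R] [IsLocalRing R] [IsNoetherianRing R]
    [CommRing T] [IsLocalRing T] [IsNoetherianRing T] [Algebra R T] [IsLocalHom (algebraMap R T)]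
    [Module.Flat R T] (hm : (maximalIdeal R).map (algebraMap R T) = maximalIdeal T)
    (hT : C2 T) : C2 R := by
  intro p hp
  have hpp : p.IsPrime := hp.1.1
  have hpT : p.map (algebraMap R T) ≠ ⊤ := by
    intro h
    have h1 : p.map (algebraMap R T) ≤ maximalIdeal T := by
      rw [← hm]
      exact Ideal.map_mono (le_maximalIdeal hpp.ne_top)
    rw [h] at h1
    exact (maximalIdeal.isMaximal T).ne_top (top_le_iff.mp h1)
  obtain ⟨q, hq⟩ := Ideal.nonempty_minimalPrimes hpT
  have hqp : q.IsPrime := hq.1.1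
  have hle : p ≤ q.comap (algebraMap R T) := Ideal.map_le_iff_le_comap.mp hq.1.2
  have hover : q.comap (algebraMap R T) = p := by
    obtain ⟨q₁, h1, hq₁p, hq₁⟩ := Ideal.exists_ideal_le_liesOver_of_le (R := R) q hle
    have h2 : p.map (algebraMap R T) ≤ q₁ := Ideal.map_le_iff_le_comap.mpr hq₁.over.le
    have h3 : q = q₁ := le_antisymm (hq.2 ⟨hq₁p, h2⟩ h1) h1
    rw [h3]
    exact hq₁.over.symm
  have hqmin : q ∈ minimalPrimes T := by
    refine ⟨⟨hqp, bot_le⟩, ?_⟩
    rintro q₂ ⟨hq₂, -⟩ h1
    have h2 : q₂.comap (algebraMap R T) ≤ p := by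
      rw [← hover]; exact Ideal.comap_mono h1
    have h3 : p ≤ q₂.comap (algebraMap R T) := hp.2 ⟨Ideal.comap_isPrime _ _, bot_le⟩ h2
    exact hq.2 ⟨hq₂, Ideal.map_le_iff_le_comap.mpr h3⟩ h1
  refine (hT q hqmin).trans ?_
  -- `R/p → T/q`
  let φ : (R ⧸ p) →+* (T ⧸ q) := Ideal.quotientMap q (algebraMap R T) hle
  let _ : Algebra (R ⧸ p) (T ⧸ q) := φ.toAlgebra
  have hφl : IsLocalHom (algebraMap (R ⧸ p) (T ⧸ q)) := by
    constructor
    intro a ha
    obtain ⟨a, rfl⟩ := Ideal.Quotient.mk_surjective a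
    by_contra hcon
    have h1 : a ∈ maximalIdeal R := by
      rw [mem_maximalIdeal, mem_nonunits_iff]
      intro h
      exact hcon (h.map (Ideal.Quotient.mk p))
    have h2 : algebraMap R T a ∈ maximalIdeal T := by
      rw [← hm]; exact Ideal.mem_map_of_mem _ h1
    have h3 : IsUnit (Ideal.Quotient.mk q (algebraMap R T a)) := ha
    have h4 : IsLocalHom (Ideal.Quotient.mk q) :=
      IsLocalHom.of_surjective _ Ideal.Quotient.mk_surjective
    exact (mem_nonunits_iff.mp ((mem_maximalIdeal _).mp h2)) (isUnit_of_map_unit _ _ h3)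
  have h1 := (K582.RingDim.ringKrullDim_add (R ⧸ p) (T ⧸ q)).1
  have h2 : ringKrullDim ((T ⧸ q) ⧸ (maximalIdeal (R ⧸ p)).map (algebraMap (R ⧸ p) (T ⧸ q))) ≤ 0 := by
    let ψ : (T ⧸ maximalIdeal T) →+*
        ((T ⧸ q) ⧸ (maximalIdeal (R ⧸ p)).map (algebraMap (R ⧸ p) (T ⧸ q))) :=
      Ideal.Quotient.lift (maximalIdeal T) ((Ideal.Quotient.mk _).comp (Ideal.Quotient.mk q)) (by
        intro t ht
        rw [← hm] at ht
        refine Ideal.Quotient.eq_zero_iff_mem.mpr ?_
        have h3 := Ideal.mem_map_of_mem (Ideal.Quotient.mk q) ht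
        rw [Ideal.map_map] at h3
        have h4 : (Ideal.Quotient.mk q).comp (algebraMap R T) =
            (algebraMap (R ⧸ p) (T ⧸ q)).comp (Ideal.Quotient.mk p) := rfl
        rw [h4, ← Ideal.map_map] at h3
        refine Ideal.map_mono ?_ h3
        rw [Ideal.map_le_iff_le_comap]
        intro r hr
        rw [Ideal.mem_comap]
        have h5 : IsLocalHom (Ideal.Quotient.mk p) :=
          IsLocalHom.of_surjective _ Ideal.Quotient.mk_surjective
        rw [mem_maximalIdeal, mem_nonunits_iff] at hr ⊢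
        exact fun h => hr (isUnit_of_map_unit _ _ h))
    have hψ : Function.Surjective ψ := Ideal.Quotient.lift_surjective_of_surjective _ _
      (Ideal.Quotient.mk_surjective.comp Ideal.Quotient.mk_surjective)
    refine (ringKrullDim_le_of_surjective ψ hψ).trans ?_
    have hf : IsField (T ⧸ maximalIdeal T) := (Ideal.Quotient.maximal_ideal_iff_isField_quotient _).mp
      (maximalIdeal.isMaximal T)
    exact (ringKrullDim_eq_zero_of_isField hf).le
  refine h1.trans ?_
  calc _ ≤ ringKrullDim (R ⧸ p) + 0 := by gcongr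
    _ = ringKrullDim (R ⧸ p) := add_zero _

theorem isPConn_of_isDomain {A : Type u} [CommRing A] [IsLocalRing A] [IsDomain A] :
    Groth.Agent.Sga2lef.H75.PConn.IsPConn A := by
  rintro J₁ J₂ hJ ⟨n, hn⟩
  have h0 : nilradical A = ⊥ := nilradical_eq_zero A
  rw [h0, le_bot_iff, Ideal.mul_eq_bot] at hJ
  rcases hJ with h | h
  · right
    exact ⟨n, by rwa [h, bot_sup_eq] at hn⟩
  · left
    exact ⟨n, by rwa [h, sup_bot_eq] at hn⟩

/-- A henselian local ring satisfying `c₂` has a completion satisfying `c₂`. -/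
theorem of_henselian {S : Type u} [CommRing S] [HenselianLocalRing S] [IsNoetherianRing S]
    (hS : C2 S) : C2 (AdicCompletion (maximalIdeal S) S) := by
  intro q hq
  have hqp : q.IsPrime := hq.1.1
  have hN := Groth.Agent.Ega4A.CplFlat.isNoetherianRing_cpl S
  have hF : Module.Flat S (AdicCompletion (maximalIdeal S) S) := AdicCompletion.flat_of_isNoetherian _
  set p : Ideal S := q.comap (algebraMap S (AdicCompletion (maximalIdeal S) S)) with hp
  have hpmin : p ∈ minimalPrimes S := Groth.Agent.S2125.comap_mem_minimalPrimes (R := S) hq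
  have hpp : p.IsPrime := hpmin.1.1
  have hdim := hS p hpmin
  have hD : HenselianLocalRing (S ⧸ p) :=
    Groth.Agent.Sga2lef.H99.ClosedFib.henselianLocalRing_quotient S p hpp.ne_top
  let S' := AdicCompletion (maximalIdeal S) S
  have hle : p.map (algebraMap S S') ≤ q := Ideal.map_le_iff_le_comap.mpr le_rfl
  have hne : p.map (algebraMap S S') ≠ ⊤ := ne_top_of_le_ne_top hqp.ne_top hle
  let E := S' ⧸ p.map (algebraMap S S')
  have hnt : Nontrivial E := Ideal.Quotient.nontrivial_iff.mpr hne
  have hE : IsLocalRing E :=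
    IsLocalRing.of_surjective' (Ideal.Quotient.mk _) Ideal.Quotient.mk_surjective
  have hflat : Module.Flat (S ⧸ p) E := K582.RingDim.flat_quotient S S' p
  have hmS : (maximalIdeal S).map (algebraMap S S') = maximalIdeal S' :=
    (AdicCompletion.maximalIdeal_eq_map).symm
  have hmap : ∀ (T : Type u) [CommRing T] [IsLocalRing T] (J : Ideal T) [IsLocalRing (T ⧸ J)],
      (maximalIdeal T).map (Ideal.Quotient.mk J) = maximalIdeal (T ⧸ J) := by
    intro T _ _ J _
    exact Groth.Agent.Sga2lef.H75.FlatConn.map_maximalIdeal _ Ideal.Quotient.mk_surjective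
  have hm : (maximalIdeal (S ⧸ p)).map (algebraMap (S ⧸ p) E) = maximalIdeal E := by
    rw [← hmap S p, ← hmap S' (p.map (algebraMap S S')), Ideal.map_map, ← hmS, Ideal.map_map]
    rfl
  have hres : ∀ y : E, ∃ a : S ⧸ p, y - algebraMap (S ⧸ p) E a ∈ maximalIdeal E := by
    intro y
    obtain ⟨y, rfl⟩ := Ideal.Quotient.mk_surjective y
    obtain ⟨a, ha⟩ := Groth.Agent.Ega4A.CplFlat.surjective_algebraMap_quotient S 1
      (Ideal.Quotient.mk _ y)
    rw [pow_one] at ha
    refine ⟨Ideal.Quotient.mk p a, ?_⟩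
    have h1 : y - algebraMap S S' a ∈ maximalIdeal S' := by
      rw [← hmS]
      exact Ideal.Quotient.eq.mp ha.symm
    have h2 := Ideal.mem_map_of_mem (Ideal.Quotient.mk (p.map (algebraMap S S'))) h1
    rw [hmap] at h2
    exact h2
  have hconn : Groth.Agent.Sga2lef.H75.PConn.IsPConn E :=
    Groth.Agent.Sga2lef.H75.FlatConn.isPConn_of_flat_of_isReduced (A := S ⧸ p) hm hres
      isPConn_of_isDomain hdim
  have hloc : IsLocalHom (algebraMap (S ⧸ p) E) := by
    constructor
    intro a ha
    by_contra hcon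
    have h1 : algebraMap (S ⧸ p) E a ∈ maximalIdeal E := by
      rw [← hm]
      exact Ideal.mem_map_of_mem _ ((mem_maximalIdeal _).mpr (mem_nonunits_iff.mpr hcon))
    exact (mem_nonunits_iff.mp ((mem_maximalIdeal _).mp h1)) ha
  have hdimE : (2 : WithBot ℕ∞) ≤ ringKrullDim E := by
    rw [(K582.RingDim.ringKrullDim_add (S ⧸ p) E).2 hflat]
    have hnt2 : Nontrivial (E ⧸ (maximalIdeal (S ⧸ p)).map (algebraMap (S ⧸ p) E)) := by
      rw [hm]; infer_instance
    have h0 : (0 : WithBot ℕ∞) ≤
        ringKrullDim (E ⧸ (maximalIdeal (S ⧸ p)).map (algebraMap (S ⧸ p) E)) :=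
      ringKrullDim_nonneg_of_nontrivial
    calc (2 : WithBot ℕ∞) = 2 + 0 := (add_zero _).symm
      _ ≤ _ := add_le_add hdim h0
  -- the minimal prime `q/p` of `E`
  let Q : Ideal E := q.map (Ideal.Quotient.mk (p.map (algebraMap S S')))
  have hQc : Q.comap (Ideal.Quotient.mk (p.map (algebraMap S S'))) = q := by
    rw [Ideal.comap_map_of_surjective _ Ideal.Quotient.mk_surjective, ← RingHom.ker_eq_comap_bot,
      Ideal.mk_ker, sup_eq_left]
    exact hle
  have hQp : Q.IsPrime := by
    refine Ideal.map_isPrime_of_surjective Ideal.Quotient.mk_surjective ?_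
    rw [Ideal.mk_ker]; exact hle
  have hQ : Q ∈ minimalPrimes E := by
    refine ⟨⟨hQp, bot_le⟩, ?_⟩
    rintro Q₂ ⟨hQ₂, -⟩ h1
    have h2 : Q₂.comap (Ideal.Quotient.mk (p.map (algebraMap S S'))) ≤ q := by
      rw [← hQc]; exact Ideal.comap_mono h1
    have h3 := hq.2 ⟨Ideal.comap_isPrime _ _, bot_le⟩ h2
    rw [Ideal.map_le_iff_le_comap]
    exact h3
  have h2 := Groth.Agent.Sga2lef.H75.PConn.two_le_dim_of_isPConn hconn hdimE hQ
  have e : (E ⧸ Q) ≃+* (S' ⧸ q) := DoubleQuot.quotQuotEquivQuotOfLE hle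
  rwa [ringKrullDim_eq_of_ringEquiv e] at h2

/-- `c₂` for a henselian flat extension with the same maximal ideal, and for the completion. -/
theorem iff_cpl {A S : Type u} [CommRing A] [IsLocalRing A] [IsNoetherianRing A]
    [CommRing S] [HenselianLocalRing S] [IsNoetherianRing S] [Algebra A S]
    [IsLocalHom (algebraMap A S)] [Module.Flat A S]
    (hm : (maximalIdeal A).map (algebraMap A S) = maximalIdeal S) :
    C2 S ↔ C2 (AdicCompletion (maximalIdeal A) A) := by
  have hN := Groth.Agent.Ega4A.CplFlat.isNoetherianRing_cpl S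
  have hNA := Groth.Agent.Ega4A.CplFlat.isNoetherianRing_cpl A
  have hF : Module.Flat S (AdicCompletion (maximalIdeal S) S) := AdicCompletion.flat_of_isNoetherian _
  have hmS : (maximalIdeal S).map (algebraMap S (AdicCompletion (maximalIdeal S) S)) =
      maximalIdeal (AdicCompletion (maximalIdeal S) S) :=
    (AdicCompletion.maximalIdeal_eq_map).symm
  constructor
  · intro h
    have h1 := of_henselian h
    have h3 := Groth.Agent.Ega4A.CplFlat.isLocalHom_cplMap A S
    let _ : Algebra (AdicCompletion (maximalIdeal A) A) (AdicCompletion (maximalIdeal S) S) :=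
      (Groth.Agent.Ega4A.CplFlat.cplMap A S).toAlgebra
    have h3' : IsLocalHom (algebraMap (AdicCompletion (maximalIdeal A) A)
      (AdicCompletion (maximalIdeal S) S)) := h3
    have h4 : Module.Flat (AdicCompletion (maximalIdeal A) A) (AdicCompletion (maximalIdeal S) S) :=
      Groth.Agent.Ega4A.CplFlat.flat_cplMap A S
    refine descend (R := AdicCompletion (maximalIdeal A) A) ?_ h1
    have h5 := Groth.Agent.Ega4A.CplFlat.map_maximalIdeal_cplMap A S
    rw [hm, hmS] at h5
    exact h5
  · intro h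
    have h1 : C2 (AdicCompletion (maximalIdeal S) S) := cpl_of_flat h
    have hloc : IsLocalHom (algebraMap S (AdicCompletion (maximalIdeal S) S)) := by
      constructor
      intro a ha
      by_contra hcon
      have h1 : algebraMap S (AdicCompletion (maximalIdeal S) S) a ∈
          maximalIdeal (AdicCompletion (maximalIdeal S) S) := by
        rw [← hmS]
        exact Ideal.mem_map_of_mem _ ((mem_maximalIdeal _).mpr (mem_nonunits_iff.mpr hcon))
      exact (mem_nonunits_iff.mp ((mem_maximalIdeal _).mp h1)) ha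
    exact descend hmS h1

end K90.C2Cpl
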