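import Groth.Agent.CAlg.K90.C2Cpl
import Groth.Agent.S9305
import Groth.Agent.Hensel.EtaleNbhd

/-!
# The condition `c₂`: henselization and normalization
-/

set_option autoImplicit false
universe u

namespace K90.C2Norm

open IsLocalRing TensorProduct K90.FlatC2 Groth.Agent.Hensel.EtaleNbhd

theorem height_comap_le {R S : Type u} [CommRing R] [CommRing S] [Algebra R S]
    [Algebra.HasGoingDown R S] (Q : PrimeSpectrum S) :
    (PrimeSpectrum.comap (algebraMap R S) Q).asIdeal.height ≤ Q.asIdeal.height := by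
  rw [PrimeSpectrum.height_eq_orderHeight, PrimeSpectrum.height_eq_orderHeight,
    Order.height_le_iff']
  intro l hl
  have : Q.asIdeal.LiesOver l.last.asIdeal := ⟨by rw [hl]; rfl⟩
  obtain ⟨L, hL1, hL2, -⟩ := Ideal.exists_ltSeries_of_hasGoingDown (S := S) l Q.asIdeal
  rw [← hL1]
  have h := Order.length_le_height_last (p := L)
  rw [hL2] at h
  exact h

theorem height_eq {R S : Type u} [CommRing R] [CommRing S] [Algebra R S]
    [Module.Flat R S] (h : IsEtaleCovered R S) (Q : PrimeSpectrum S) :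
    (PrimeSpectrum.comap (algebraMap R S) Q).asIdeal.height = Q.asIdeal.height := by
  refine le_antisymm (height_comap_le Q) ?_
  rw [PrimeSpectrum.height_eq_orderHeight, PrimeSpectrum.height_eq_orderHeight]
  exact Order.height_le_height_apply_of_strictMono _ (strictMono_comap h) Q

theorem isEtaleCovered_tensor {A A' S : Type u} [CommRing A] [CommRing A'] [CommRing S]
    [Algebra A A'] [Algebra A S] (h : IsEtaleCovered A S) : IsEtaleCovered A' (A' ⊗[A] S) := by
  classical
  intro s
  -- every finite set of the tensor product is covered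
  have key : ∀ b : A' ⊗[A] S, ∃ t : Finset S, ∀ (E : Type u) [CommRing E] [Algebra A E]
      (φ : E →ₐ[A] S), (↑t : Set S) ⊆ Set.range φ →
      b ∈ Set.range (Algebra.TensorProduct.map (AlgHom.id A' A') φ) := by
    intro b
    induction b using TensorProduct.induction_on with
    | zero => exact ⟨∅, fun E _ _ φ _ => ⟨0, map_zero _⟩⟩
    | tmul a x =>
      refine ⟨{x}, fun E _ _ φ hφ => ?_⟩
      obtain ⟨e, rfl⟩ := hφ (by simp : x ∈ _)
      exact ⟨a ⊗ₜ e, by simp⟩
    | add x y hx hy =>
      obtain ⟨t1, h1⟩ := hx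
      obtain ⟨t2, h2⟩ := hy
      refine ⟨t1 ∪ t2, fun E _ _ φ hφ => ?_⟩
      rw [Finset.coe_union] at hφ
      obtain ⟨u, hu⟩ := h1 E φ (Set.subset_union_left.trans hφ)
      obtain ⟨v, hv⟩ := h2 E φ (Set.subset_union_right.trans hφ)
      exact ⟨u + v, by rw [map_add, hu, hv]⟩
  choose t ht using key
  obtain ⟨E, _, _, _, φ, hφ⟩ := h (s.biUnion t)
  refine ⟨A' ⊗[A] E, inferInstance, inferInstance, inferInstance,
    Algebra.TensorProduct.map (AlgHom.id A' A') φ, ?_⟩
  intro b hb
  refine ht b E φ (Set.Subset.trans ?_ hφ)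
  exact Finset.coe_subset.mpr (Finset.subset_biUnion_of_mem t hb)

/-- If `P` is the unique minimal prime below the maximal ideal `n` and `n` is the unique maximal ideal above `P`. -/
theorem ringKrullDim_quotient_eq {B : Type u} [CommRing B] (P n : Ideal B) [P.IsPrime] [n.IsPrime]
    (h1 : ∀ m : Ideal B, m.IsMaximal → P ≤ m → m = n)
    (h2 : ∀ q ∈ minimalPrimes B, q ≤ n → q = P) :
    ringKrullDim (B ⧸ P) = ringKrullDim (Localization.AtPrime n) := by
  have hset : PrimeSpectrum.zeroLocus (R := B) P = Set.Iic (⟨n, inferInstance⟩ : PrimeSpectrum B) := by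
    ext x
    rw [PrimeSpectrum.mem_zeroLocus, SetLike.coe_subset_coe, Set.mem_Iic]
    constructor
    · intro h
      obtain ⟨m, hm, hle⟩ := Ideal.exists_le_maximal x.asIdeal x.isPrime.ne_top
      rw [h1 m hm (h.trans hle)] at hle
      exact hle
    · intro h
      obtain ⟨q, hq, hle⟩ := Ideal.exists_minimalPrimes_le (J := x.asIdeal) (bot_le)
      have h3 : x.asIdeal ≤ n := h
      rw [h2 q hq (hle.trans h3)] at hle
      exact hle
  rw [ringKrullDim_quotient, hset, ringKrullDim]
  exact (Order.krullDim_eq_of_orderIso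
    (IsLocalization.AtPrime.primeSpectrumOrderIso (Localization.AtPrime n) n)).symm

theorem main {A A' S : Type u} [CommRing A] [IsLocalRing A] [CommRing A'] [CommRing S]
    [IsLocalRing S] [Algebra A A'] [Algebra A S] [Algebra.IsIntegral A A']
    [Module.FaithfullyFlat A S] (hcov : IsEtaleCovered A S)
    (hbij : Set.BijOn (fun P : Ideal (A' ⊗[A] S) =>
        P.comap (Algebra.TensorProduct.includeRight.toRingHom : S →+* A' ⊗[A] S))
      (minimalPrimes (A' ⊗[A] S)) (minimalPrimes S))
    (h1 : ∀ q ∈ minimalPrimes (A' ⊗[A] S),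
        ∃! m : Ideal (A' ⊗[A] S), m.IsMaximal ∧ q ≤ m)
    (h2 : ∀ m : Ideal (A' ⊗[A] S), m.IsMaximal →
        ∃! q : Ideal (A' ⊗[A] S), q ∈ minimalPrimes (A' ⊗[A] S) ∧ q ≤ m) :
    (∀ m' : MaximalSpectrum A',
      (2 : WithBot ℕ∞) ≤ ringKrullDim (Localization.AtPrime m'.asIdeal)) ↔ C2 S := by
  let aS : Algebra S (A' ⊗[A] S) := Algebra.TensorProduct.rightAlgebra
  have hint : Algebra.IsIntegral S (A' ⊗[A] S) := by
    have h1 : Algebra.IsIntegral S (S ⊗[A] A') := inferInstance
    let e : S ⊗[A] A' ≃+* A' ⊗[A] S :=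
      (Algebra.TensorProduct.comm A S A').toRingEquiv
    let e' : S ⊗[A] A' →ₐ[S] A' ⊗[A] S :=
      { e.toRingHom with
        commutes' := fun s => by
          change (Algebra.TensorProduct.comm A S A') (s ⊗ₜ 1) = _
          rw [Algebra.TensorProduct.comm_tmul]
          rfl }
    exact Algebra.IsIntegral.of_surjective e' e.surjective
  have hcov' : IsEtaleCovered A' (A' ⊗[A] S) := isEtaleCovered_tensor hcov
  have hff : Module.FaithfullyFlat A' (A' ⊗[A] S) := inferInstance
  -- the key dimension formula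
  have key : ∀ (P : Ideal (A' ⊗[A] S)) (hP : P ∈ minimalPrimes (A' ⊗[A] S))
      (n : Ideal (A' ⊗[A] S)) (hn : n.IsMaximal) (hle : P ≤ n)
      (m' : MaximalSpectrum A') (hm' : n.comap (algebraMap A' (A' ⊗[A] S)) = m'.asIdeal),
      ringKrullDim (S ⧸ P.comap (algebraMap S (A' ⊗[A] S))) =
        ringKrullDim (Localization.AtPrime m'.asIdeal) := by
    intro P hP n hn hle m' hm'
    have hPp : P.IsPrime := hP.1.1
    have hnp : n.IsPrime := hn.isPrime
    have e1 : ringKrullDim (S ⧸ P.comap (algebraMap S (A' ⊗[A] S))) =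
        ringKrullDim ((A' ⊗[A] S) ⧸ P) := by
      let φ : (S ⧸ P.comap (algebraMap S (A' ⊗[A] S))) →+* ((A' ⊗[A] S) ⧸ P) :=
        Ideal.quotientMap P (algebraMap S (A' ⊗[A] S)) le_rfl
      have hφ : Function.Injective φ := Ideal.quotientMap_injective
      let _ : Algebra (S ⧸ P.comap (algebraMap S (A' ⊗[A] S))) ((A' ⊗[A] S) ⧸ P) := φ.toAlgebra
      have hst : IsScalarTower S (S ⧸ P.comap (algebraMap S (A' ⊗[A] S))) ((A' ⊗[A] S) ⧸ P) :=
        IsScalarTower.of_algebraMap_eq fun x => rfl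
      have hi : Algebra.IsIntegral S ((A' ⊗[A] S) ⧸ P) := inferInstance
      have hi2 : Algebra.IsIntegral (S ⧸ P.comap (algebraMap S (A' ⊗[A] S))) ((A' ⊗[A] S) ⧸ P) :=
        Algebra.IsIntegral.tower_top (R := S)
      have : FaithfulSMul (S ⧸ P.comap (algebraMap S (A' ⊗[A] S))) ((A' ⊗[A] S) ⧸ P) :=
        (faithfulSMul_iff_algebraMap_injective _ _).mpr hφ
      exact (Groth.Agent.CalgC.DimFT.ringKrullDim_eq_of_isIntegral).symm
    have e2 := ringKrullDim_quotient_eq P n
      (fun m hm hPm => by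
        obtain ⟨m₀, -, huniq⟩ := h1 P hP
        rw [huniq m ⟨hm, hPm⟩, huniq n ⟨hn, hle⟩])
      (fun q hq hqn => by
        obtain ⟨q₀, -, huniq⟩ := h2 n hn
        rw [huniq q ⟨hq, hqn⟩, huniq P ⟨hP, hle⟩])
    have e3 := height_eq hcov' (⟨n, hnp⟩ : PrimeSpectrum (A' ⊗[A] S))
    rw [e1, e2, IsLocalization.AtPrime.ringKrullDim_eq_height n,
      IsLocalization.AtPrime.ringKrullDim_eq_height m'.asIdeal, ← hm']
    exact_mod_cast e3.symm
  -- maximal ideals contract to maximal ideals
  have hmax : ∀ n : Ideal (A' ⊗[A] S), n.IsMaximal →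
      (n.comap (algebraMap A' (A' ⊗[A] S))).IsMaximal := by
    intro n hn
    have hnp : n.IsPrime := hn.isPrime
    have i1 : (n.comap (algebraMap S (A' ⊗[A] S))).IsMaximal :=
      Ideal.isMaximal_comap_of_isIntegral_of_isMaximal n
    have i2 : n.comap (algebraMap S (A' ⊗[A] S)) = maximalIdeal S := eq_maximalIdeal i1
    have i3 : (n.comap (algebraMap A' (A' ⊗[A] S))).comap (algebraMap A A') = maximalIdeal A := by
      have i4 : (n.comap (algebraMap A' (A' ⊗[A] S))).comap (algebraMap A A') =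
          (n.comap (algebraMap S (A' ⊗[A] S))).comap (algebraMap A S) := by
        rw [Ideal.comap_comap, Ideal.comap_comap]
        congr 1
        ext a
        change (algebraMap A A' a) ⊗ₜ[A] (1 : S) = (1 : A') ⊗ₜ[A] (algebraMap A S a)
        rw [Algebra.algebraMap_eq_smul_one, Algebra.algebraMap_eq_smul_one, TensorProduct.smul_tmul]
      rw [i4, i2]
      have i5 : (maximalIdeal S).comap (algebraMap A S) ≤ maximalIdeal A :=
        le_maximalIdeal (Ideal.comap_ne_top _ (maximalIdeal.isMaximal S).ne_top)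
      refine le_antisymm i5 ?_
      intro a ha
      rw [Ideal.mem_comap]
      by_contra hcon
      have i6 : IsUnit (algebraMap A S a) := by
        rwa [mem_maximalIdeal, mem_nonunits_iff, not_not] at hcon
      have i7 : (Ideal.span {a}).map (algebraMap A S) = ⊤ := by
        rw [Ideal.map_span, Set.image_singleton, Ideal.span_singleton_eq_top]
        exact i6
      have i8 := congrArg (Ideal.comap (algebraMap A S)) i7
      rw [Ideal.comap_map_eq_self_of_faithfullyFlat, Ideal.comap_top,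
        Ideal.span_singleton_eq_top] at i8
      exact (mem_nonunits_iff.mp ((mem_maximalIdeal _).mp ha)) i8
    have i9 : ((n.comap (algebraMap A' (A' ⊗[A] S))).comap (algebraMap A A')).IsMaximal := by
      rw [i3]; exact maximalIdeal.isMaximal A
    exact Ideal.isMaximal_of_isIntegral_of_isMaximal_comap _ i9
  constructor
  · intro h q hq
    obtain ⟨P, hP, hPq⟩ := hbij.surjOn hq
    obtain ⟨n, ⟨hn, hle⟩, -⟩ := h1 P hP
    have := key P hP n hn hle ⟨_, hmax n hn⟩ rfl
    have hq' : P.comap (algebraMap S (A' ⊗[A] S)) = q := hPq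
    rw [hq'] at this
    rw [this]
    exact h _
  · intro h m'
    have hm'p : m'.asIdeal.IsPrime := m'.isMaximal.isPrime
    obtain ⟨Q, hQ⟩ := PrimeSpectrum.comap_surjective_of_faithfullyFlat (A := A')
      (B := A' ⊗[A] S) ⟨m'.asIdeal, hm'p⟩
    obtain ⟨n, hn, hle⟩ := Ideal.exists_le_maximal Q.asIdeal Q.isPrime.ne_top
    have hn' : n.comap (algebraMap A' (A' ⊗[A] S)) = m'.asIdeal := by
      have hQ' : Q.asIdeal.comap (algebraMap A' (A' ⊗[A] S)) = m'.asIdeal :=
        congrArg PrimeSpectrum.asIdeal hQ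
      refine (m'.isMaximal.eq_of_le (hmax n hn).ne_top ?_).symm
      rw [← hQ']
      exact Ideal.comap_mono hle
    obtain ⟨P, ⟨hP, hPn⟩, -⟩ := h2 n hn
    rw [← key P hP n hn hPn m' hn']
    exact h _ (hbij.mapsTo hP)

end K90.C2Norm
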