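import Groth.Agent.Ega4A.CplFlat
import Groth.Agent.Ega4A.Depth
import Groth.Agent.CalgA.SerreLocal
import Groth.Agent.Sga3.H805.NormRed
import Groth.Agent.CalgC.HenselIntDom
import Groth.Agent.CalgC.DimFT
import Groth.Agent.Pi1A.LefExt
import Groth.Agent.S0568
import Groth.Agent.S2062
import Groth.Agent.S2125
import Groth.Agent.S5756
import Mathlib.RingTheory.AdicCompletion.LocalRing
import Mathlib.RingTheory.Ideal.AssociatedPrime.Localization

/-!
# The condition `c₂` for completions under flat local homomorphisms
-/

set_option autoImplicit false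
universe u

namespace K90.FlatC2

open IsLocalRing TensorProduct

/-- All irreducible components have dimension at least two. -/
def C2 (R : Type u) [CommRing R] : Prop :=
  ∀ q ∈ minimalPrimes R, (2 : WithBot ℕ∞) ≤ ringKrullDim (R ⧸ q)

theorem henselian_of_complete (A : Type u) [CommRing A] [IsLocalRing A]
    [IsAdicComplete (maximalIdeal A) A] : HenselianLocalRing A :=
  Groth.Agent.Pi1A.LefExt.henselianLocalRing_of_isAdicComplete A

/-- A finite module of depth at least two with annihilator a given minimal prime. -/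
theorem exists_module {A : Type u} [CommRing A] [IsLocalRing A] [IsNoetherianRing A]
    [IsAdicComplete (maximalIdeal A) A] (q : Ideal A) [q.IsPrime]
    (hq : (2 : WithBot ℕ∞) ≤ ringKrullDim (A ⧸ q)) :
    ∃ (N : Type u) (_ : AddCommGroup N) (_ : Module A N) (_ : Module.Finite A N)
      (n : N), (∀ a : A, a • n = 0 → a ∈ q) ∧ (∀ a ∈ q, ∀ x : N, a • x = 0) ∧
        2 ≤ LocCoh.depth A N := by
  have hN : CAlg.IsNagata A := Groth.Agent.S0568.result A
  obtain ⟨R', _, _, _, _, _, _, φ, hφ, hker, -⟩ :=
    Groth.Agent.Sga3.H805.NormRed.exists_normal hN q (FractionRing (A ⧸ q))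
  let _ : Algebra A R' := φ.toAlgebra
  have hfin : Module.Finite A R' := hφ
  have hhens := henselian_of_complete A
  have hloc : IsLocalRing R' := Groth.Agent.CalgC.HenselIntDom.isLocalRing_of_isIntegral (A := A)
  have hφl : IsLocalHom (algebraMap A R') := by
    constructor
    intro a ha
    by_contra hcon
    have h1 : a ∈ maximalIdeal A := by rwa [mem_maximalIdeal, mem_nonunits_iff]
    have h2 : (maximalIdeal R').comap (algebraMap A R') = maximalIdeal A := by
      have : ((maximalIdeal R').comap (algebraMap A R')).IsMaximal :=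
        Ideal.isMaximal_comap_of_isIntegral_of_isMaximal _
      exact IsLocalRing.eq_maximalIdeal this
    rw [← h2] at h1
    exact (mem_nonunits_iff.mp ((mem_maximalIdeal _).mp h1)) ha
  refine ⟨R', inferInstance, inferInstance, inferInstance, 1, ?_, ?_, ?_⟩
  · intro a ha
    rw [Algebra.smul_def, mul_one] at ha
    rw [← hker]
    exact ha
  · intro a ha x
    rw [← hker] at ha
    rw [Algebra.smul_def]
    have : algebraMap A R' a = 0 := ha
    rw [this, zero_mul]
  · rw [Groth.Agent.S5756.result A R' R']
    apply Groth.Agent.CalgA.SerreLocal.two_le_depth_of_isIntegrallyClosed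
    intro hle
    have h1 : ringKrullDim (A ⧸ q) ≤ ringKrullDim R' := by
      let ψ : (A ⧸ q) →+* R' := Ideal.Quotient.lift q φ (by
        intro a ha
        rw [← hker] at ha
        exact ha)
      have hψ : Function.Injective ψ := by
        rw [injective_iff_map_eq_zero]
        intro a ha
        obtain ⟨a, rfl⟩ := Ideal.Quotient.mk_surjective a
        rw [Ideal.Quotient.eq_zero_iff_mem, ← hker]
        exact ha
      let _ : Algebra (A ⧸ q) R' := ψ.toAlgebra
      have : IsScalarTower A (A ⧸ q) R' := IsScalarTower.of_algebraMap_eq fun x => rfl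
      have : Algebra.IsIntegral A R' := inferInstance
      have : Algebra.IsIntegral (A ⧸ q) R' := Algebra.IsIntegral.tower_top (R := A)
      have : FaithfulSMul (A ⧸ q) R' := (faithfulSMul_iff_algebraMap_injective _ _).mpr hψ
      exact (Groth.Agent.CalgC.DimFT.ringKrullDim_eq_of_isIntegral (R := A ⧸ q) (S := R')).ge
    have h2 := (hq.trans h1).trans hle
    exact absurd h2 (by decide)

theorem of_complete {A B : Type u} [CommRing A] [IsLocalRing A] [IsNoetherianRing A]
    [IsAdicComplete (maximalIdeal A) A] [CommRing B] [IsLocalRing B] [IsNoetherianRing B]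
    [Algebra A B] [IsLocalHom (algebraMap A B)] [Module.Flat A B] (hA : C2 A) : C2 B := by
  intro q' hq'
  have hq'p : q'.IsPrime := hq'.1.1
  have hq := Groth.Agent.S2125.comap_mem_minimalPrimes (R := A) hq'
  have hqp : (q'.comap (algebraMap A B)).IsPrime := hq.1.1
  obtain ⟨N, _, _, _, n, hn, hn', hdep⟩ := exists_module _ (hA _ hq)
  have hdep' : 2 ≤ LocCoh.depth B (B ⊗[A] N) := by
    rw [Groth.Agent.S2062.result]
    exact hdep.trans le_self_add
  -- the annihilator of `B ⊗ N`
  have hann : Module.annihilator B (B ⊗[A] N) ≤ q' := by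
    intro b hb
    have h1 : b ⊗ₜ[A] n = 0 := by
      have := Module.mem_annihilator.mp hb (1 ⊗ₜ[A] n)
      rwa [TensorProduct.smul_tmul', smul_eq_mul, mul_one] at this
    let j : (A ⧸ q'.comap (algebraMap A B)) →ₗ[A] N :=
      (q'.comap (algebraMap A B)).liftQ (LinearMap.toSpanSingleton A N n) (by
        intro a ha
        exact hn' a ha n)
    have hj : Function.Injective j := by
      rw [injective_iff_map_eq_zero]
      intro a ha
      obtain ⟨a, rfl⟩ := Submodule.Quotient.mk_surjective _ a
      rw [Submodule.Quotient.mk_eq_zero]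
      exact hn a ha
    have h2 : Function.Injective (j.lTensor B) := Module.Flat.lTensor_preserves_injective_linearMap j hj
    have h3 : b ⊗ₜ[A] (Submodule.Quotient.mk (1 : A) : A ⧸ q'.comap (algebraMap A B)) = 0 := by
      apply h2
      rw [map_zero, LinearMap.lTensor_tmul, ← h1]
      congr 1
      change (1 : A) • n = n
      rw [one_smul]
    have h4 := congrArg (TensorProduct.tensorQuotEquivQuotSMul B (q'.comap (algebraMap A B))) h3
    rw [map_zero] at h4
    have h5 : TensorProduct.tensorQuotEquivQuotSMul B (q'.comap (algebraMap A B))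
        (b ⊗ₜ[A] (Submodule.Quotient.mk (1 : A) : A ⧸ q'.comap (algebraMap A B))) =
        Submodule.Quotient.mk ((1 : A) • b) :=
      TensorProduct.tensorQuotEquivQuotSMul_tmul_mk _ b 1
    rw [h5, one_smul, Submodule.Quotient.mk_eq_zero] at h4
    have h6 : ((q'.comap (algebraMap A B)) • (⊤ : Submodule A B)) ≤ q'.restrictScalars A := by
      rw [Submodule.smul_le]
      intro r hr y _
      rw [Algebra.smul_def]
      exact Ideal.mul_mem_right _ q' hr
    exact h6 h4
  have hmin : q' ∈ (Module.annihilator B (B ⊗[A] N)).minimalPrimes := by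
    refine ⟨⟨hq'p, hann⟩, ?_⟩
    rintro p ⟨hp, -⟩ hle
    exact hq'.2 ⟨hp, bot_le⟩ hle
  have hass := Module.associatedPrimes.minimalPrimes_annihilator_subset_associatedPrimes B
    (B ⊗[A] N) hmin
  have h7 := Groth.Agent.Ega4A.Depth.depth_le_ringKrullDim_quotient hass
  refine le_trans ?_ h7
  change ((2 : ℕ∞) : WithBot ℕ∞) ≤ _
  exact WithBot.coe_le_coe.mpr hdep'

/-- S16576 -/
theorem cpl_of_flat {A B : Type u} [CommRing A] [IsLocalRing A] [IsNoetherianRing A]
    [CommRing B] [IsLocalRing B] [IsNoetherianRing B]
    [Algebra A B] [IsLocalHom (algebraMap A B)] [Module.Flat A B]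
    (hA : C2 (AdicCompletion (maximalIdeal A) A)) : C2 (AdicCompletion (maximalIdeal B) B) := by
  have h1 := Groth.Agent.Ega4A.CplFlat.isLocalHom_cplMap A B
  have h2 := Groth.Agent.Ega4A.CplFlat.isNoetherianRing_cpl B
  have h2' := Groth.Agent.Ega4A.CplFlat.isNoetherianRing_cpl A
  let _ : Algebra (AdicCompletion (maximalIdeal A) A) (AdicCompletion (maximalIdeal B) B) :=
    (Groth.Agent.Ega4A.CplFlat.cplMap A B).toAlgebra
  have h3 : IsLocalHom (algebraMap (AdicCompletion (maximalIdeal A) A)
      (AdicCompletion (maximalIdeal B) B)) := h1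
  have h4 : Module.Flat (AdicCompletion (maximalIdeal A) A) (AdicCompletion (maximalIdeal B) B) :=
    Groth.Agent.Ega4A.CplFlat.flat_cplMap A B
  exact of_complete hA

end K90.FlatC2
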