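import Mathlib.RingTheory.Noetherian.Basic
import Mathlib.RingTheory.Finiteness.Basic
import Mathlib.RingTheory.Ideal.Maps
import Mathlib.RingTheory.Ideal.Operations
import Mathlib.Algebra.Module.Submodule.Pointwise
import Mathlib.RingTheory.Ideal.Quotient.Operations

/-!
# The Eakin–Nagata theorem (after Formanek)

`A` a Noetherian ring which is a finite module over `B`, `B → A` injective: then `B` is Noetherian.
-/

set_option autoImplicit false

namespace K90.Formanek

open scoped Pointwise

variable {B M : Type*} [CommRing B] [AddCommGroup M] [Module B M]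

/-- If every submodule strictly above `N₀` is finitely generated, then `M/N₀` is Noetherian. -/
theorem isNoetherian_quotient_of_lt (N₀ : Submodule B M)
    (h : ∀ N : Submodule B M, N₀ < N → N.FG) : IsNoetherian B (M ⧸ N₀) := by
  rw [isNoetherian_def]
  intro N
  have hle : N₀ ≤ N.comap N₀.mkQ := by
    intro x hx
    rw [Submodule.mem_comap, Submodule.mkQ_apply, (Submodule.Quotient.mk_eq_zero N₀).mpr hx]
    exact N.zero_mem
  rcases hle.eq_or_lt with h1 | h1
  · have h2 : N = ⊥ := by
      have h3 := Submodule.map_comap_eq_of_surjective (Submodule.mkQ_surjective N₀) N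
      rw [← h3, ← h1, Submodule.mkQ_map_self]
    rw [h2]
    exact Submodule.fg_bot
  · have h3 := (h _ h1).map N₀.mkQ
    rwa [Submodule.map_comap_eq_of_surjective (Submodule.mkQ_surjective N₀) N] at h3

/-- A module for which all proper quotients `M/bM` are Noetherian is Noetherian. -/
theorem isNoetherian_of_forall [Module.Finite B M]
    (h : ∀ b : B, b • (⊤ : Submodule B M) ≠ ⊥ → IsNoetherian B (M ⧸ (b • (⊤ : Submodule B M)))) :
    IsNoetherian B M := by
  classical
  obtain ⟨s, hs⟩ := Module.Finite.fg_top (R := B) (M := M)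
  -- Zorn
  obtain ⟨N₀, hN₀⟩ : ∃ N₀ : Submodule B M, Maximal (fun N : Submodule B M =>
      ∀ b : B, b • (⊤ : Submodule B M) ≤ N → b • (⊤ : Submodule B M) = ⊥) N₀ := by
    let S : Set (Submodule B M) := {N : Submodule B M |
      ∀ b : B, b • (⊤ : Submodule B M) ≤ N → b • (⊤ : Submodule B M) = ⊥}
    suffices hih : ∀ c ⊆ S, IsChain (· ≤ ·) c → ∀ y ∈ c, ∃ ub ∈ S, ∀ z ∈ c, z ≤ ub by
      obtain ⟨m, -, hm⟩ := zorn_le_nonempty₀ S hih ⊥ (fun b hb => le_bot_iff.mp hb)
      exact ⟨m, hm⟩
    · intro c hc hchain y hy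
      refine ⟨sSup c, ?_, fun z hz => le_sSup hz⟩
      intro b hb
      -- `b s ⊆ sSup c`, a finite set
      have key : ∀ t : Finset M, (∀ x ∈ t, b • x ∈ sSup c) → ∃ N ∈ c, ∀ x ∈ t, b • x ∈ N := by
        intro t
        induction t using Finset.induction_on with
        | empty => intro _; exact ⟨y, hy, by simp⟩
        | insert a t ha ih =>
          intro ht
          obtain ⟨N, hN, hN'⟩ := ih (fun x hx => ht x (Finset.mem_insert_of_mem hx))
          obtain ⟨N', hN'c, hN''⟩ := (Submodule.mem_sSup_of_directed ⟨y, hy⟩ hchain.directedOn).mp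
            (ht a (Finset.mem_insert_self _ _))
          rcases hchain.total hN hN'c with h1 | h1
          · exact ⟨N', hN'c, fun x hx => by
              rcases Finset.mem_insert.mp hx with rfl | hx
              · exact hN''
              · exact h1 (hN' x hx)⟩
          · exact ⟨N, hN, fun x hx => by
              rcases Finset.mem_insert.mp hx with rfl | hx
              · exact h1 hN''
              · exact hN' x hx⟩
      obtain ⟨N, hN, hN'⟩ := key s (fun x _ => hb (Submodule.smul_mem_pointwise_smul x b ⊤ trivial))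
      refine hc hN b ?_
      rintro _ ⟨x, -, rfl⟩
      have hx : x ∈ Submodule.span B (s : Set M) := by rw [hs]; trivial
      change b • x ∈ N
      induction hx using Submodule.span_induction with
      | mem x hx => exact hN' x hx
      | zero => rw [smul_zero]; exact N.zero_mem
      | add x y _ _ hx hy => rw [smul_add]; exact N.add_mem hx hy
      | smul a x _ hx => rw [smul_comm]; exact N.smul_mem a hx
  have hfg : ∀ b : B, (b • (⊤ : Submodule B M)).FG := fun b =>
    (Module.Finite.fg_top (R := B) (M := M)).map (DistribSMul.toLinearMap B M b)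
  -- every bigger submodule is finitely generated
  have hbig : ∀ N : Submodule B M, N₀ < N → N.FG := by
    intro N hN
    obtain ⟨b, hb, hb0⟩ : ∃ b : B, b • (⊤ : Submodule B M) ≤ N ∧ b • (⊤ : Submodule B M) ≠ ⊥ := by
      by_contra hcon
      push Not at hcon
      exact hN.not_ge (hN₀.2 hcon hN.le)
    have hnoeth := h b hb0
    have h1 : (N.map (b • (⊤ : Submodule B M)).mkQ).FG := IsNoetherian.noetherian _
    refine Submodule.fg_of_fg_map_of_fg_inf_ker (b • (⊤ : Submodule B M)).mkQ h1 ?_
    rw [Submodule.ker_mkQ, inf_eq_right.mpr hb]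
    exact hfg b
  have hQ := isNoetherian_quotient_of_lt N₀ hbig
  -- `B/Ann M` embeds into `(M/N₀)^s`
  let φ : B →ₗ[B] (s → M ⧸ N₀) := LinearMap.pi fun x => LinearMap.toSpanSingleton B (M ⧸ N₀)
    (N₀.mkQ x)
  have hφ : ∀ b : B, φ b = 0 → ∀ x : M, b • x = 0 := by
    intro b hb x
    have h1 : b • (⊤ : Submodule B M) ≤ N₀ := by
      rintro _ ⟨y, -, rfl⟩
      have hy : y ∈ Submodule.span B (s : Set M) := by rw [hs]; trivial
      change b • y ∈ N₀
      induction hy using Submodule.span_induction with
      | mem y hy =>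
        have h2 := congrFun hb ⟨y, hy⟩
        have h3 : N₀.mkQ (b • y) = 0 := by rw [map_smul]; exact h2
        rwa [Submodule.mkQ_apply, Submodule.Quotient.mk_eq_zero] at h3
      | zero => rw [smul_zero]; exact N₀.zero_mem
      | add x y _ _ hx hy => rw [smul_add]; exact N₀.add_mem hx hy
      | smul a x _ hx => rw [smul_comm]; exact N₀.smul_mem a hx
    have h2 := hN₀.1 b h1
    have h3 : b • x ∈ b • (⊤ : Submodule B M) := Submodule.smul_mem_pointwise_smul x b ⊤ trivial
    rw [h2] at h3
    exact h3
  have hR : IsNoetherian B (B ⧸ LinearMap.ker φ) :=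
    isNoetherian_of_injective ((LinearMap.ker φ).liftQ φ le_rfl) (by
      rw [← LinearMap.ker_eq_bot, Submodule.ker_liftQ_eq_bot _ _ _ le_rfl])
  let ψ : (s → B ⧸ LinearMap.ker φ) →ₗ[B] M :=
    LinearMap.lsum B (fun _ => B ⧸ LinearMap.ker φ) B fun x =>
      (LinearMap.ker φ).liftQ (LinearMap.toSpanSingleton B M x) (fun b hb => hφ b hb x)
  refine isNoetherian_of_surjective ψ ?_
  rw [eq_top_iff, ← hs, Submodule.span_le]
  intro x hx
  refine ⟨Pi.single ⟨x, hx⟩ (Submodule.Quotient.mk 1), ?_⟩
  simp only [ψ]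
  rw [LinearMap.lsum_piSingle]
  exact one_smul B x

/-- The Eakin–Nagata theorem. -/
theorem isNoetherianRing {A : Type*} [CommRing A] [IsNoetherianRing A] [Algebra B A]
    [Module.Finite B A] (hinj : Function.Injective (algebraMap B A)) : IsNoetherianRing B := by
  suffices h : IsNoetherian B A by
    exact isNoetherian_of_injective (Algebra.linearMap B A) hinj
  by_contra hcon
  -- a maximal `J A` with `A/JA` not Noetherian
  obtain ⟨W, ⟨⟨J, rfl⟩, hW⟩, hmax⟩ := WellFounded.has_min
    (wellFounded_gt (α := Ideal A)) {W : Ideal A | (∃ J : Ideal B, W = J.map (algebraMap B A)) ∧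
      ¬ IsNoetherian B (A ⧸ W)} ⟨⊥, ⟨⊥, by rw [Ideal.map_bot]⟩, fun h => hcon
        (isNoetherian_of_linearEquiv
          ((Submodule.quotEquivOfEqBot (⊥ : Ideal A) rfl).restrictScalars B))⟩
  apply hW
  have hfin : Module.Finite B (A ⧸ J.map (algebraMap B A)) := inferInstance
  refine isNoetherian_of_forall fun b hb => ?_
  by_contra hnot
  -- compare with `(J + b) A`
  let W' : Ideal A := (J ⊔ Ideal.span {b}).map (algebraMap B A)
  have hle : J.map (algebraMap B A) ≤ W' := Ideal.map_mono le_sup_left
  have hbW' : algebraMap B A b ∈ W' :=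
    Ideal.mem_map_of_mem _ (Ideal.mem_sup_right (Ideal.mem_span_singleton_self b))
  have hlt : J.map (algebraMap B A) < W' := by
    refine lt_of_le_of_ne hle fun heq => hb ?_
    rw [eq_bot_iff]
    rintro _ ⟨x, -, rfl⟩
    obtain ⟨x, rfl⟩ := Ideal.Quotient.mk_surjective x
    rw [Submodule.mem_bot]
    change Ideal.Quotient.mk (J.map (algebraMap B A)) (b • x) = 0
    rw [Ideal.Quotient.eq_zero_iff_mem, heq, Algebra.smul_def]
    exact Ideal.mul_mem_right _ _ hbW'
  have hW' : IsNoetherian B (A ⧸ W') := by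
    by_contra hcon'
    exact hmax W' ⟨⟨_, rfl⟩, hcon'⟩ hlt
  apply hnot
  -- `(A/JA)/b ≅ A/W'`
  let f : (A ⧸ W') →ₗ[B] ((A ⧸ J.map (algebraMap B A)) ⧸
      (b • (⊤ : Submodule B (A ⧸ J.map (algebraMap B A))))) :=
    (W'.restrictScalars B).liftQ ((b • (⊤ : Submodule B (A ⧸ J.map (algebraMap B A)))).mkQ ∘ₗ
      (Ideal.Quotient.mkₐ B (J.map (algebraMap B A))).toLinearMap) (by
      intro w hw
      have hw' : w ∈ J.map (algebraMap B A) ⊔ Ideal.span {algebraMap B A b} := by
        have h1 : W' = J.map (algebraMap B A) ⊔ Ideal.span {algebraMap B A b} := by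
          rw [show W' = (J ⊔ Ideal.span {b}).map (algebraMap B A) from rfl, Ideal.map_sup,
            Ideal.map_span, Set.image_singleton]
        rw [← h1]
        exact hw
      obtain ⟨u, hu, v, hv, rfl⟩ := Submodule.mem_sup.mp hw'
      obtain ⟨c, rfl⟩ := Ideal.mem_span_singleton'.mp hv
      rw [LinearMap.mem_ker, LinearMap.comp_apply, Submodule.mkQ_apply,
        Submodule.Quotient.mk_eq_zero]
      have h2 : (Ideal.Quotient.mkₐ B (J.map (algebraMap B A))).toLinearMap (u + c * algebraMap B A b)
          = b • (Ideal.Quotient.mk (J.map (algebraMap B A)) c) := by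
        change Ideal.Quotient.mk (J.map (algebraMap B A)) (u + c * algebraMap B A b) =
          Ideal.Quotient.mk (J.map (algebraMap B A)) (b • c)
        rw [map_add, Ideal.Quotient.eq_zero_iff_mem.mpr hu, zero_add, Algebra.smul_def, mul_comm]
      rw [h2]
      exact Submodule.smul_mem_pointwise_smul _ b ⊤ trivial)
  refine isNoetherian_of_surjective f ?_
  rw [LinearMap.range_eq_top]
  intro y
  obtain ⟨y, rfl⟩ := Submodule.mkQ_surjective _ y
  obtain ⟨y, rfl⟩ := Ideal.Quotient.mk_surjective y
  exact ⟨Submodule.Quotient.mk y, rfl⟩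

end K90.Formanek
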