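import Mathlib.RingTheory.Invariant.Basic
import Mathlib.RingTheory.LocalRing.Module
import Mathlib.LinearAlgebra.LinearIndependent.Basic
import Mathlib.LinearAlgebra.InvariantBasisNumber
import Mathlib.RingTheory.UniqueFactorizationDomain.Basic
import Mathlib.RingTheory.Ideal.Height
import Mathlib.RingTheory.Ideal.GoingUp
import Mathlib.Algebra.BigOperators.Associated
import Mathlib.Algebra.BigOperators.GroupWithZero.Action

/-!
# Height one primes with trivial residue extension in rings of invariants of UFDs are principal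
-/

set_option autoImplicit false

namespace K90.GalPrin

open TensorProduct

section List

variable {A B : Type*} [CommRing A] [CommRing B] [Algebra B A]

/-- partial products -/
def gens : List A → List A
  | [] => []
  | c :: l => 1 :: (gens l).map (c * ·)

theorem length_gens (l : List A) : (gens l).length = l.length := by
  induction l with
  | nil => rfl
  | cons c l ih => simp [gens, ih]

theorem mul_mem_span (c : A) (l : List A) (x : A) (hx : x ∈ Submodule.span B {x | x ∈ gens l}) :
    c * x ∈ Submodule.span B {x | x ∈ gens (c :: l)} := by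
  have h1 : (Submodule.span B {x | x ∈ gens l}).map (LinearMap.mulLeft B c) ≤
      Submodule.span B {x | x ∈ gens (c :: l)} := by
    rw [Submodule.map_span, Submodule.span_le]
    rintro _ ⟨y, hy, rfl⟩
    refine Submodule.subset_span ?_
    change c * y ∈ gens (c :: l)
    exact List.mem_cons_of_mem _ (List.mem_map.mpr ⟨y, hy, rfl⟩)
  exact h1 ⟨x, hx, rfl⟩

theorem exists_of_list (q : Ideal B) [hq : q.IsPrime] (l : List A)
    (h : ∀ c ∈ l, ∀ y : A, ∃ b s : B, s ∉ q ∧ c ∣ algebraMap B A s * y - algebraMap B A b) :
    ∀ y : A, ∃ s : B, s ∉ q ∧ ∃ z : A,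
      algebraMap B A s * y - l.prod * z ∈ Submodule.span B {x | x ∈ gens l} := by
  induction l with
  | nil =>
    intro y
    refine ⟨1, fun h1 => hq.ne_top ((Ideal.eq_top_iff_one q).mpr h1), y, ?_⟩
    rw [map_one, List.prod_nil, sub_self]
    exact Submodule.zero_mem _
  | cons c l ih =>
    intro y
    obtain ⟨b, s₀, hs₀, y₁, hy₁⟩ := h c List.mem_cons_self y
    obtain ⟨s₁, hs₁, z, hz⟩ := ih (fun c hc => h c (List.mem_cons_of_mem _ hc)) y₁
    refine ⟨s₁ * s₀, fun hmem => (hq.mem_or_mem hmem).elim hs₁ hs₀, z, ?_⟩
    have e : algebraMap B A (s₁ * s₀) * y - (c :: l).prod * z =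
        (s₁ * b) • (1 : A) + c * (algebraMap B A s₁ * y₁ - l.prod * z) := by
      rw [List.prod_cons, Algebra.smul_def, map_mul, map_mul]
      linear_combination algebraMap B A s₁ * hy₁
    rw [e]
    refine Submodule.add_mem _ (Submodule.smul_mem _ _ (Submodule.subset_span ?_))
      (mul_mem_span c l _ hz)
    exact List.mem_cons_self

end List

section Rank

variable {A B G : Type*} [CommRing A] [IsDomain A] [CommRing B] [Algebra B A]
  [Group G] [Fintype G] [MulSemiringAction G A] [FaithfulSMul G A] [SMulCommClass G B A]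

/-- Dedekind's lemma: if `r A` is in the span of `l` over the invariants then `|G| ≤ l.length`. -/
theorem card_le_length (l : List A) (r : B) (hr : algebraMap B A r ≠ 0)
    (h : ∀ y : A, r • y ∈ Submodule.span B {x | x ∈ l}) : Fintype.card G ≤ l.length := by
  classical
  by_contra hcon
  push Not at hcon
  let φ : (G → A) →ₗ[A] (Fin l.length → A) :=
    LinearMap.pi fun j => LinearMap.lsum A (fun _ => A) A
      (fun g => LinearMap.toSpanSingleton A A (g • l.get j))
  have hφ : ∀ (x : G → A) (j : Fin l.length), φ x j = ∑ g, x g * (g • l.get j) := by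
    intro x j
    simp only [φ, LinearMap.pi_apply, LinearMap.lsum_apply, LinearMap.sum_apply,
      LinearMap.comp_apply, LinearMap.proj_apply, LinearMap.toSpanSingleton_apply, smul_eq_mul]
  have hninj : ¬ Function.Injective φ := by
    intro hinj
    have h1 := card_le_of_injective A φ hinj
    rw [Fintype.card_fin] at h1
    omega
  rw [injective_iff_map_eq_zero] at hninj
  push Not at hninj
  obtain ⟨x, hx, hx0⟩ := hninj
  apply hx0
  -- the functional `∑ x_g g` vanishes
  have h1 : ∀ y ∈ Submodule.span B {x | x ∈ l}, ∑ g, x g * (g • y) = 0 := by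
    intro y hy
    induction hy using Submodule.span_induction with
    | mem y hy =>
      obtain ⟨j, rfl⟩ := List.get_of_mem hy
      rw [← hφ, hx]
      rfl
    | zero => simp
    | add y z _ _ hy hz =>
      simp only [smul_add, mul_add, Finset.sum_add_distrib, hy, hz, add_zero]
    | smul b y _ hy =>
      have : ∀ g : G, x g * (g • b • y) = b • (x g * (g • y)) := fun g => by
        rw [smul_comm g b y, mul_smul_comm]
      simp only [this, ← Finset.smul_sum, hy, smul_zero]
  have h2 : ∀ y : A, ∑ g, x g * (g • y) = 0 := by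
    intro y
    have h3 := h1 _ (h y)
    have : ∀ g : G, x g * (g • r • y) = algebraMap B A r * (x g * (g • y)) := fun g => by
      rw [smul_comm g r y, mul_smul_comm, Algebra.smul_def]
    simp only [this, ← Finset.mul_sum] at h3
    exact (mul_eq_zero.mp h3).resolve_left hr
  let F : G → (A →* A) := fun g => (MulSemiringAction.toRingHom G A g : A →* A)
  have hF : Function.Injective F := by
    intro g g' hgg
    apply FaithfulSMul.eq_of_smul_eq_smul (M := G) (α := A)
    intro a
    exact DFunLike.congr_fun hgg a
  have hli := (linearIndependent_monoidHom A A).comp F hF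
  rw [Fintype.linearIndependent_iff] at hli
  funext g
  refine hli x ?_ g
  funext y
  rw [Finset.sum_apply]
  exact h2 y

end Rank

section Nakayama

variable {B M : Type*} [CommRing B] [AddCommGroup M] [Module B M]

/-- Nakayama at a prime. -/
theorem exists_notMem_smul_eq_zero [Module.Finite B M] (q : Ideal B) [hq : q.IsPrime]
    (h : ∀ m : M, ∃ s : B, s ∉ q ∧ s • m ∈ (q • (⊤ : Submodule B M))) :
    ∃ r : B, r ∉ q ∧ ∀ m : M, r • m = 0 := by
  have h1 : (⟨q, hq⟩ : PrimeSpectrum B) ∉ Module.support B M := by
    rw [Module.mem_support_iff_nontrivial_residueField_tensorProduct, not_nontrivial_iff_subsingleton]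
    have key : ∀ m : M, ∀ x : q.ResidueField, x ⊗ₜ[B] m = 0 := by
      intro m x
      obtain ⟨s, hs, hsm⟩ := h m
      have h2 : ∀ n ∈ (q • (⊤ : Submodule B M)), ∀ x : q.ResidueField, x ⊗ₜ[B] n = 0 := by
        intro n hn
        refine Submodule.smul_induction_on hn ?_ ?_
        · intro r hr n _ x
          rw [TensorProduct.tmul_smul, TensorProduct.smul_tmul', Algebra.smul_def]
          have : algebraMap B q.ResidueField r = 0 := by
            rwa [Ideal.algebraMap_residueField_eq_zero]
          rw [this, zero_mul, TensorProduct.zero_tmul]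
        · intro n n' hn hn' x
          rw [TensorProduct.tmul_add, hn, hn', add_zero]
      have hs0 : algebraMap B q.ResidueField s ≠ 0 := by
        rwa [Ne, Ideal.algebraMap_residueField_eq_zero]
      have h3 := h2 _ hsm ((algebraMap B q.ResidueField s)⁻¹ * x)
      rw [TensorProduct.tmul_smul, TensorProduct.smul_tmul', Algebra.smul_def, ← mul_assoc,
        mul_inv_cancel₀ hs0, one_mul] at h3
      exact h3
    refine ⟨fun a b => ?_⟩
    have h4 : ∀ z : q.ResidueField ⊗[B] M, z = 0 := by
      intro z
      induction z with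
      | zero => rfl
      | tmul x m => exact key m x
      | add y z hy hz => rw [hy, hz, add_zero]
    rw [h4 a, h4 b]
  rw [Module.mem_support_iff_of_finite] at h1
  obtain ⟨r, hr, hr'⟩ := Set.not_subset.mp h1
  exact ⟨r, hr', fun m => Module.mem_annihilator.mp hr m⟩

end Nakayama

section Main

theorem exists_norm {A B G : Type*} [CommRing A] [CommRing B] [Algebra B A]
    [Group G] [Fintype G] [MulSemiringAction G A]
    [Algebra.IsInvariant B A G] (u : A) : ∃ w : B, algebraMap B A w = ∏ g : G, g • u := by
  refine Algebra.IsInvariant.isInvariant (G := G) _ fun h => ?_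
  rw [Finset.smul_prod']
  simp only [smul_smul]
  exact Fintype.prod_equiv (Equiv.mulLeft h) _ _ fun g => rfl

theorem main {A B : Type*} (G : Type*) [CommRing A] [IsDomain A] [UniqueFactorizationMonoid A]
    [CommRing B] [Algebra B A] [Module.Finite B A]
    [Group G] [Fintype G] [MulSemiringAction G A] [FaithfulSMul G A] [SMulCommClass G B A]
    [Algebra.IsInvariant B A G] (a : A) (ha : Prime a) (q : Ideal B) [hqp : q.IsPrime]
    (hq : ∀ b : B, b ∈ q ↔ a ∣ algebraMap B A b)
    (hres : ∀ y : A, ∃ b s : B, s ∉ q ∧ a ∣ algebraMap B A s * y - algebraMap B A b) :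
    ∃ t : B, t ∈ q ∧ algebraMap B A t ≠ 0 ∧
      ∀ x ∈ q, algebraMap B A t ∣ algebraMap B A x := by
  classical
  -- the action on divisibility
  have hsmul_dvd : ∀ (g : G) (u v : A), u ∣ v → g • u ∣ g • v := by
    rintro g u _ ⟨w, rfl⟩
    exact ⟨g • w, smul_mul' g u w⟩
  have hfix : ∀ (g : G) (b : B), g • algebraMap B A b = algebraMap B A b := fun g b => smul_algebraMap g b
  have hprime : ∀ g : G, Prime (g • a) := fun g =>
    (MulEquiv.prime_iff (MulSemiringAction.toRingEquiv G A g)).mpr ha
  let c : G → Associates A := fun g => Associates.mk (g • a)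
  have hc : ∀ g h : G, c (g * h) = c g ↔ c h = c 1 := by
    intro g h
    simp only [c, Associates.mk_eq_mk_iff_associated, one_smul, mul_smul]
    constructor
    · rintro ⟨u, hu⟩
      refine ⟨Units.map (MulSemiringAction.toRingHom G A g⁻¹ : A →* A) u, ?_⟩
      have h1 := congrArg (fun z => g⁻¹ • z) hu
      simp only [smul_mul', inv_smul_smul] at h1
      exact h1
    · rintro ⟨u, hu⟩
      refine ⟨Units.map (MulSemiringAction.toRingHom G A g : A →* A) u, ?_⟩
      have h1 := congrArg (fun z => g • z) hu
      simp only [smul_mul'] at h1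
      exact h1
  let O : Finset (Associates A) := Finset.univ.image c
  let rep : Associates A → G := fun P => if h : ∃ g, c g = P then h.choose else 1
  have hrep : ∀ P ∈ O, c (rep P) = P := by
    intro P hP
    have h1 : ∃ g, c g = P := by simpa [O] using hP
    simp only [rep, dif_pos h1]
    exact h1.choose_spec
  let gen : Associates A → A := fun P => rep P • a
  have hgen : ∀ P ∈ O, Associates.mk (gen P) = P := hrep
  let d : ℕ := (Finset.univ.filter (fun g => c g = c 1)).card
  have hfib : ∀ P ∈ O, (Finset.univ.filter (fun g => c g = P)).card = d := by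
    intro P hP
    symm
    refine Finset.card_bij (fun h _ => rep P * h) ?_ ?_ ?_
    · intro h hh
      rw [Finset.mem_filter] at hh ⊢
      refine ⟨Finset.mem_univ _, ?_⟩
      rw [(hc _ _).mpr hh.2, hrep P hP]
    · intro h _ h' _ heq
      exact mul_left_cancel heq
    · intro g hg
      rw [Finset.mem_filter] at hg
      refine ⟨(rep P)⁻¹ * g, ?_, mul_inv_cancel_left _ _⟩
      rw [Finset.mem_filter]
      refine ⟨Finset.mem_univ _, ?_⟩
      rw [← hc (rep P), mul_inv_cancel_left, hg.2, hrep P hP]
  have hcard : Fintype.card G = O.card * d := by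
    rw [← Finset.card_univ, Finset.card_eq_sum_card_image c Finset.univ, Finset.sum_congr rfl hfib,
      Finset.sum_const, smul_eq_mul]
  have hO : 0 < O.card := Finset.card_pos.mpr ⟨c 1, Finset.mem_image_of_mem _ (Finset.mem_univ _)⟩
  -- the norm
  have hN : Associated (∏ g : G, g • a) (∏ P ∈ O, gen P ^ d) := by
    rw [← Associates.mk_eq_mk_iff_associated, ← Associates.finsetProd_mk, ← Associates.finsetProd_mk]
    have h1 : ∏ g : G, c g = ∏ P ∈ O, P ^ (Finset.univ.filter (fun g => c g = P)).card :=
      Finset.prod_comp (fun P => P) c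
    change ∏ g : G, c g = _
    rw [h1]
    refine Finset.prod_congr rfl fun P hP => ?_
    rw [hfib P hP, Associates.mk_pow, hgen P hP]
  have hpair : ∀ k : ℕ, (O : Set (Associates A)).Pairwise
      (Function.onFun IsRelPrime (fun P => gen P ^ k)) := by
    intro k P hP Q hQ hPQ
    refine IsRelPrime.pow ?_
    rw [(hprime _).irreducible.isRelPrime_iff_not_dvd]
    intro hdvd
    apply hPQ
    have h1 : Associated (gen P) (gen Q) := (hprime _).associated_of_dvd (hprime _) hdvd
    rw [← hgen P hP, ← hgen Q hQ]
    exact Associates.mk_eq_mk_iff_associated.mpr h1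
  have hprod_dvd : ∀ (k : ℕ) (x : B), a ^ k ∣ algebraMap B A x →
      ∏ P ∈ O, gen P ^ k ∣ algebraMap B A x := by
    intro k x hx
    refine Finset.prod_dvd_of_isRelPrime (hpair k) fun P _ => ?_
    have h1 := hsmul_dvd (rep P) _ _ hx
    rwa [smul_pow', hfix] at h1
  -- key claim
  have key : ∀ x ∈ q, a ^ d ∣ algebraMap B A x := by
    by_contra hcon
    push Not at hcon
    obtain ⟨x, hxq, hx⟩ := hcon
    -- the multiplicity
    obtain ⟨m, hm1, hm2⟩ : ∃ m : ℕ, a ^ m ∣ algebraMap B A x ∧ ¬ a ^ (m + 1) ∣ algebraMap B A x := by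
      by_contra hcon
      push Not at hcon
      have : ∀ n : ℕ, a ^ n ∣ algebraMap B A x := by
        intro n
        induction n with
        | zero => simp
        | succ n ih => exact hcon n ih
      exact hx (this d)
    have hmd : m < d := by
      by_contra hge
      push Not at hge
      exact hx ((pow_dvd_pow a hge).trans hm1)
    obtain ⟨u, hu⟩ := hprod_dvd m x hm1
    have hu' : ∀ P ∈ O, ¬ gen P ∣ u := by
      intro P hP hdvd
      apply hm2
      have h1 : gen P ^ (m + 1) ∣ algebraMap B A x := by
        rw [hu, pow_succ]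
        exact mul_dvd_mul (Finset.dvd_prod_of_mem _ hP) hdvd
      have h2 := hsmul_dvd (rep P)⁻¹ _ _ h1
      rwa [smul_pow', hfix, inv_smul_smul] at h2
    obtain ⟨w, hw⟩ := exists_norm (B := B) (G := G) u
    have hwq : w ∉ q := by
      rw [hq, hw]
      intro hdvd
      obtain ⟨g, -, hg⟩ := (Prime.dvd_finsetProd_iff ha _).mp hdvd
      have h1 := hsmul_dvd g⁻¹ _ _ hg
      rw [inv_smul_smul] at h1
      have hP : c g⁻¹ ∈ O := Finset.mem_image_of_mem _ (Finset.mem_univ _)
      have h2 : Associated (gen (c g⁻¹)) (g⁻¹ • a) :=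
        Associates.mk_eq_mk_iff_associated.mp (hgen _ hP)
      exact hu' _ hP (h2.dvd.trans h1)
    -- the list of primes
    let L : List A := (List.replicate m (O.toList.map gen)).flatten
    have hLprod : L.prod = ∏ P ∈ O, gen P ^ m := by
      rw [List.prod_flatten, List.map_replicate, List.prod_replicate, Finset.prod_pow,
        Finset.prod_map_toList]
    have hLlen : L.length = m * O.card := by
      simp [L]
    have hLmem : ∀ e ∈ L, ∀ y : A, ∃ b s : B, s ∉ q ∧
        e ∣ algebraMap B A s * y - algebraMap B A b := by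
      intro e he y
      obtain ⟨l, hl, hel⟩ := List.mem_flatten.mp he
      obtain rfl := List.eq_of_mem_replicate hl
      obtain ⟨P, hP, rfl⟩ := List.mem_map.mp hel
      obtain ⟨b, s, hs, hdvd⟩ := hres ((rep P)⁻¹ • y)
      refine ⟨b, s, hs, ?_⟩
      have h1 := hsmul_dvd (rep P) _ _ hdvd
      rwa [smul_sub, smul_mul', hfix, hfix, smul_inv_smul] at h1
    have hspan := exists_of_list q L hLmem
    -- Nakayama for `A / span`
    let K : Submodule B A := Submodule.span B {x | x ∈ gens L}
    obtain ⟨r, hrq, hr⟩ := exists_notMem_smul_eq_zero (M := A ⧸ K) q (by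
      intro y
      obtain ⟨y, rfl⟩ := Submodule.mkQ_surjective K y
      obtain ⟨s, hs, z, hz⟩ := hspan y
      refine ⟨w * s, fun hmem => (hqp.mem_or_mem hmem).elim hwq hs, ?_⟩
      -- `w L.prod z ∈ q A`
      have h1 : (w * s) • K.mkQ y = w • K.mkQ (L.prod * z) := by
        rw [mul_smul, ← sub_eq_zero, ← smul_sub, ← map_smul, ← map_sub]
        have : K.mkQ (s • y - L.prod * z) = 0 := by
          rw [Submodule.mkQ_apply, Submodule.Quotient.mk_eq_zero, Algebra.smul_def]
          exact hz
        rw [this, smul_zero]
      obtain ⟨u', hu'⟩ : u ∣ ∏ g : G, g • u :=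
        (by simpa using Finset.dvd_prod_of_mem (fun g : G => g • u) (Finset.mem_univ (1 : G)))
      have h2 : w • (L.prod * z) = x • (u' * z) := by
        rw [Algebra.smul_def, Algebra.smul_def, hw, hu', hu, hLprod]
        ring
      rw [h1, ← map_smul, h2, map_smul]
      exact Submodule.smul_mem_smul hxq trivial)
    have hle := card_le_length (G := G) (gens L) r (by
      intro h0
      apply hrq
      rw [hq, h0]
      exact dvd_zero a) (fun y => by
        have := hr (K.mkQ y)
        rwa [← map_smul, Submodule.mkQ_apply, Submodule.Quotient.mk_eq_zero] at this)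
    rw [length_gens, hLlen, hcard, mul_comm O.card d] at hle
    exact absurd (Nat.le_of_mul_le_mul_right hle hO) (by omega)
  obtain ⟨t, ht⟩ := exists_norm (B := B) (G := G) a
  refine ⟨t, ?_, ?_, ?_⟩
  · rw [hq, ht]
    simpa using Finset.dvd_prod_of_mem (fun g : G => g • a) (Finset.mem_univ (1 : G))
  · rw [ht]
    exact Finset.prod_ne_zero_iff.mpr fun g _ => (hprime g).ne_zero
  · intro x hx
    rw [ht]
    exact hN.dvd.trans (hprod_dvd d x (key x hx))

end Main

end K90.GalPrin
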