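import Groth.Agent.CalgB.LiftMCM
import Groth.Agent.Sga3C.QSliceAlg
import Groth.Agent.Ega4A.Depth
import Groth.Agent.Ega4dB.DepthReg

/-!
# Linkage in a Gorenstein local ring and regular sequences

* `isSMulRegular_quotient`: `A/I` Cohen-Macaulay of dimension `dim A`: an `A`-regular element is `A/I`-regular.
* `main`: the annihilator `J = (0 : I)` is compatible with reduction modulo a regular sequence.
-/

set_option autoImplicit false
universe u

namespace K90.GorLink

open IsLocalRing RingTheory.Sequence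
open scoped Pointwise

/-- In a Cohen-Macaulay local quotient of full dimension, regular elements of `A` remain regular. -/
theorem isSMulRegular_quotient {A : Type u} [CommRing A] [IsLocalRing A] [IsNoetherianRing A]
    (I : Ideal A) (hI : ringKrullDim (A ⧸ I) = ringKrullDim A)
    [hcm : LocCoh.IsCohenMacaulayLocalRing (A ⧸ I)] {r : A} (hr : IsSMulRegular A r) :
    IsSMulRegular (A ⧸ I) r := by
  by_contra hcon
  have hcon' : ¬ IsSMulRegular (A ⧸ I) (Ideal.Quotient.mk I r) := by
    intro h
    apply hcon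
    intro x y hxy
    exact h hxy
  have hmem : Ideal.Quotient.mk I r ∈ ⋃ p ∈ associatedPrimes (A ⧸ I) (A ⧸ I), (p : Set (A ⧸ I)) := by
    rw [biUnion_associatedPrimes_eq_compl_regular]
    exact hcon'
  obtain ⟨Q, hQ, hrQ⟩ := Set.mem_iUnion₂.mp hmem
  have hQp : Q.IsPrime := hQ.isPrime
  have h1 := Groth.Agent.Ega4A.Depth.depth_le_ringKrullDim_quotient (M := A ⧸ I) hQ
  rw [← hcm.supportDim_eq_depth, Module.supportDim_self_eq_ringKrullDim, hI] at h1
  set P : Ideal A := Q.comap (Ideal.Quotient.mk I) with hP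
  have hrP : r ∈ P := hrQ
  have hrm : r ∈ maximalIdeal A := le_maximalIdeal (hQp.comap _).ne_top hrP
  have h2 : ringKrullDim ((A ⧸ I) ⧸ Q) ≤ ringKrullDim (A ⧸ Ideal.span {r}) := by
    refine ringKrullDim_le_of_surjective (Ideal.Quotient.lift (Ideal.span {r})
      ((Ideal.Quotient.mk Q).comp (Ideal.Quotient.mk I)) ?_) ?_
    · intro a ha
      obtain ⟨b, rfl⟩ := Ideal.mem_span_singleton'.mp ha
      have : Ideal.Quotient.mk I (b * r) ∈ Q := by
        rw [map_mul]
        exact Q.mul_mem_left _ hrQ
      exact Ideal.Quotient.eq_zero_iff_mem.mpr this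
    · refine Ideal.Quotient.lift_surjective_of_surjective _ _ ?_
      exact Ideal.Quotient.mk_surjective.comp Ideal.Quotient.mk_surjective
  have h3 := ringKrullDim_quotient_span_singleton_succ_eq_ringKrullDim hr hrm
  have h4 := h1.trans h2
  have h5 : ringKrullDim A < ⊤ := ringKrullDim_lt_top
  have h6 : (0 : WithBot ℕ∞) ≤ ringKrullDim A := ringKrullDim_nonneg_of_nontrivial
  rw [← h3] at h4 h5 h6
  generalize ringKrullDim (A ⧸ Ideal.span {r}) = x at *
  induction x using WithBot.recBotCoe with
  | bot => simp at h6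
  | coe x =>
    induction x using ENat.recTopCoe with
    | top => exact absurd h5 (by rw [show (((⊤ : ℕ∞) : WithBot ℕ∞) + 1) = ⊤ from rfl]; exact lt_irrefl _)
    | coe n =>
      have h7 : ((n + 1 : ℕ) : WithBot ℕ∞) ≤ ((n : ℕ) : WithBot ℕ∞) := by exact_mod_cast h4
      have h8 : n + 1 ≤ n := by exact_mod_cast h7
      omega

/-- A system of parameters on `A/I`. -/
theorem exists_list {A : Type u} [CommRing A] [IsLocalRing A] [IsNoetherianRing A]
    (I : Ideal A) (hI : ringKrullDim (A ⧸ I) = ringKrullDim A)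
    [hcm : LocCoh.IsCohenMacaulayLocalRing (A ⧸ I)] :
    ∃ rs : List A, ringKrullDim A = rs.length ∧ (∀ r ∈ rs, r ∈ maximalIdeal A) ∧
      IsWeaklyRegular (A ⧸ I) rs := by
  obtain ⟨n, hn⟩ : ∃ n : ℕ, ringKrullDim A = n := by
    have h5 : ringKrullDim A < ⊤ := ringKrullDim_lt_top
    have h6 : (0 : WithBot ℕ∞) ≤ ringKrullDim A := ringKrullDim_nonneg_of_nontrivial
    generalize ringKrullDim A = x at *
    induction x using WithBot.recBotCoe with
    | bot => simp at h6
    | coe x =>
      induction x using ENat.recTopCoe with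
      | top => exact absurd h5 (by simp)
      | coe n => exact ⟨n, rfl⟩
  have h1 : LocCoh.depth A (A ⧸ I) = (n : ℕ∞) := by
    rw [Groth.Agent.Sga3C.QSliceAlg.depth_of_surjective (R := A) (S := A ⧸ I)
      Ideal.Quotient.mk_surjective]
    have h2 := hcm.supportDim_eq_depth
    rw [Module.supportDim_self_eq_ringKrullDim, hI, hn] at h2
    exact_mod_cast h2.symm
  obtain ⟨rs, hlen, hmem, hreg⟩ :=
    (Groth.Agent.Ega4dB.DepthReg.le_idealDepth_iff_exists (maximalIdeal A) (A ⧸ I) n).mp h1.ge
  exact ⟨rs, by rw [hlen, hn], hmem, hreg⟩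

/-- The case of one regular element. -/
theorem step {A : Type u} [CommRing A] [LocCoh.IsGorensteinLocalRing A]
    (I : Ideal A) (hI : ringKrullDim (A ⧸ I) = ringKrullDim A)
    [hcm : LocCoh.IsCohenMacaulayLocalRing (A ⧸ I)] {r : A} (hr : IsSMulRegular A r)
    (x : A) (hx : ∀ a ∈ I, x * a ∈ Ideal.span {r}) :
    ∃ y ∈ Submodule.annihilator I, x - y ∈ Ideal.span {r} := by
  obtain ⟨rs, hd, hm, hreg⟩ := exists_list I hI
  obtain ⟨y, hy, hxy⟩ := Groth.Agent.CalgB.LiftMCM.exists_lift_gorenstein I rs hd hm hreg r hr x hx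
  exact ⟨y, Submodule.mem_annihilator.mpr fun a ha => hy a ha, hxy⟩

theorem main (n : ℕ) : ∀ (A : Type u) [CommRing A] [LocCoh.IsGorensteinLocalRing A]
    (I : Ideal A) (_ : ringKrullDim (A ⧸ I) = ringKrullDim A)
    [LocCoh.IsCohenMacaulayLocalRing (A ⧸ I)] (rs : List A) (_ : rs.length = n)
    (_ : IsWeaklyRegular A rs) (_ : ∀ r ∈ rs, r ∈ maximalIdeal A),
    (∀ x, (∀ a ∈ I, x * a ∈ Ideal.ofList rs) → x ∈ Submodule.annihilator I ⊔ Ideal.ofList rs) ∧
    (∀ x ∈ Submodule.annihilator I, x ∈ Ideal.ofList rs →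
      x ∈ Ideal.ofList rs * Submodule.annihilator I) := by
  induction n with
  | zero =>
    intro A _ _ I hI _ rs hlen _ _
    obtain rfl := List.length_eq_zero_iff.mp hlen
    simp only [Ideal.ofList_nil]
    refine ⟨fun x hx => ?_, fun x _ hx => ?_⟩
    · rw [sup_bot_eq, Submodule.mem_annihilator]
      intro a ha
      exact hx a ha
    · rw [Ideal.mem_bot] at hx
      rw [hx]
      exact Ideal.zero_mem _
  | succ n ih =>
    intro A _ _ I hI hcm rs hlen hreg hm
    obtain ⟨r, rs, rfl⟩ : ∃ r rs', rs = r :: rs' := by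
      cases rs with
      | nil => simp at hlen
      | cons r rs => exact ⟨r, rs, rfl⟩
    rw [isWeaklyRegular_cons_iff] at hreg
    have hr := hreg.1
    have hrm : r ∈ maximalIdeal A := hm r List.mem_cons_self
    have hlen' : rs.length = n := by simpa using hlen
    -- the quotient ring
    let π : A →+* A ⧸ Ideal.span {r} := Ideal.Quotient.mk _
    have hG : LocCoh.IsGorensteinLocalRing (A ⧸ Ideal.span {r}) :=
      (Groth.Agent.S0343.result A r hrm hr).mp inferInstance
    let I' : Ideal (A ⧸ Ideal.span {r}) := I.map π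
    have hrI := isSMulRegular_quotient I hI hr
    have hrI' : IsSMulRegular (A ⧸ I) (Ideal.Quotient.mk I r) := fun x y hxy => hrI hxy
    have hrIm : Ideal.Quotient.mk I r ∈ maximalIdeal (A ⧸ I) := by
      have hloc : IsLocalHom (Ideal.Quotient.mk I) :=
        IsLocalHom.of_surjective _ Ideal.Quotient.mk_surjective
      rw [mem_maximalIdeal, mem_nonunits_iff] at hrm ⊢
      exact fun h => hrm (isUnit_of_map_unit (Ideal.Quotient.mk I) r h)
    let e : ((A ⧸ Ideal.span {r}) ⧸ I') ≃+* ((A ⧸ I) ⧸ Ideal.span {Ideal.Quotient.mk I r}) :=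
      (DoubleQuot.quotQuotEquivComm (Ideal.span {r}) I).trans
        (Ideal.quotEquivOfEq (by rw [Ideal.map_span, Set.image_singleton]))
    have hcm' : LocCoh.IsCohenMacaulayLocalRing ((A ⧸ Ideal.span {r}) ⧸ I') := by
      have := Groth.Agent.Sga3C.QSliceAlg.isCM_quotient_span hrIm hrI'
      exact Groth.Agent.CalgB.CMPoly.isCohenMacaulayLocalRing_of_ringEquiv e.symm
    have hI' : ringKrullDim ((A ⧸ Ideal.span {r}) ⧸ I') = ringKrullDim (A ⧸ Ideal.span {r}) := by
      rw [ringKrullDim_eq_of_ringEquiv e]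
      have h1 := ringKrullDim_quotient_span_singleton_succ_eq_ringKrullDim hr hrm
      have h2 := ringKrullDim_quotient_span_singleton_succ_eq_ringKrullDim hrI' hrIm
      rw [hI, ← h1] at h2
      exact ENat.WithBot.add_one_cancel.mp h2
    let rs' : List (A ⧸ Ideal.span {r}) := rs.map π
    have hreg' : IsWeaklyRegular (A ⧸ Ideal.span {r}) rs' := by
      have eq : QuotSMulTop r A ≃ₗ[A] (A ⧸ Ideal.span {r}) :=
        Submodule.quotEquivOfEq _ _ (by
          ext y
          rw [Submodule.mem_smul_pointwise_iff_exists, Ideal.mem_span_singleton']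
          constructor
          · rintro ⟨z, -, rfl⟩
            exact ⟨z, by rw [smul_eq_mul, mul_comm]⟩
          · rintro ⟨z, rfl⟩
            exact ⟨z, trivial, by rw [smul_eq_mul, mul_comm]⟩)
      have h1 := (eq.isWeaklyRegular_congr rs).mp hreg.2
      exact (isWeaklyRegular_map_algebraMap_iff (A ⧸ Ideal.span {r}) (A ⧸ Ideal.span {r}) rs).mpr h1
    have hm' : ∀ a ∈ rs', a ∈ maximalIdeal (A ⧸ Ideal.span {r}) := by
      intro a ha
      obtain ⟨b, hb, rfl⟩ := List.mem_map.mp ha
      have hbm := hm b (List.mem_cons_of_mem _ hb)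
      have hloc : IsLocalHom π := IsLocalHom.of_surjective _ Ideal.Quotient.mk_surjective
      rw [mem_maximalIdeal, mem_nonunits_iff] at hbm ⊢
      exact fun h => hbm (isUnit_of_map_unit π b h)
    obtain ⟨ih1, ih2⟩ := ih (A ⧸ Ideal.span {r}) I' hI' rs' (by simp [rs', hlen']) hreg' hm'
    have hmemI' : ∀ a' ∈ I', ∃ a ∈ I, π a = a' := fun a' ha' =>
      (Ideal.mem_map_iff_of_surjective π Ideal.Quotient.mk_surjective).mp ha'
    have hofList : Ideal.ofList rs' = (Ideal.ofList rs).map π := (Ideal.map_ofList π rs).symm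
    -- the annihilator of `I'`
    have hann : Submodule.annihilator I' = (Submodule.annihilator I).map π := by
      apply le_antisymm
      · intro y' hy'
        obtain ⟨y, rfl⟩ := Ideal.Quotient.mk_surjective y'
        obtain ⟨z, hz, hyz⟩ := step I hI hr y (fun a ha => by
          rw [← Ideal.Quotient.eq_zero_iff_mem, map_mul]
          exact Submodule.mem_annihilator.mp hy' (π a) (Ideal.mem_map_of_mem _ ha))
        have : π y = π z := Ideal.Quotient.eq.mpr hyz
        change π y ∈ _
        rw [this]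
        exact Ideal.mem_map_of_mem _ hz
      · rw [Ideal.map_le_iff_le_comap]
        intro y hy
        rw [Ideal.mem_comap, Submodule.mem_annihilator]
        intro a' ha'
        obtain ⟨a, ha, rfl⟩ := hmemI' a' ha'
        have := Submodule.mem_annihilator.mp hy a ha
        rw [smul_eq_mul] at this ⊢
        rw [← map_mul, this, map_zero]
    have hcons : Ideal.ofList (r :: rs) = Ideal.span {r} ⊔ Ideal.ofList rs := Ideal.ofList_cons _ _
    rw [hcons]
    have hsur : ∀ K : Ideal A, ∀ y', y' ∈ K.map π → ∃ y ∈ K, π y = y' := fun K y' hy' =>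
      (Ideal.mem_map_iff_of_surjective π Ideal.Quotient.mk_surjective).mp hy'
    constructor
    · intro x hx
      have h1 := ih1 (π x) (by
        intro a' ha'
        obtain ⟨a, ha, rfl⟩ := hmemI' a' ha'
        rw [← map_mul, hofList]
        obtain ⟨s, hs, t, ht, hst⟩ := Submodule.mem_sup.mp (hx a ha)
        have hs0 : π s = 0 := Ideal.Quotient.eq_zero_iff_mem.mpr hs
        rw [← hst, map_add, hs0, zero_add]
        exact Ideal.mem_map_of_mem _ ht)
      rw [hann, hofList, ← Ideal.map_sup] at h1
      obtain ⟨y, hy, hxy⟩ := hsur _ _ h1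
      have h2 : x - y ∈ Ideal.span {r} := Ideal.Quotient.eq.mp hxy.symm
      have h3 : x = y + (x - y) := by ring
      rw [h3]
      refine Ideal.add_mem _ ?_ ?_
      · have h4 : Submodule.annihilator I ⊔ Ideal.ofList rs ≤
            Submodule.annihilator I ⊔ (Ideal.span {r} ⊔ Ideal.ofList rs) :=
          sup_le_sup_left le_sup_right _
        exact h4 hy
      · exact Submodule.mem_sup_right (Submodule.mem_sup_left h2)
    · intro x hx hx'
      have h1 := ih2 (π x) (by rw [hann]; exact Ideal.mem_map_of_mem _ hx) (by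
        rw [hofList]
        obtain ⟨s, hs, t, ht, hst⟩ := Submodule.mem_sup.mp hx'
        have hs0 : π s = 0 := Ideal.Quotient.eq_zero_iff_mem.mpr hs
        rw [← hst, map_add, hs0, zero_add]
        exact Ideal.mem_map_of_mem _ ht)
      rw [hann, hofList, ← Ideal.map_mul] at h1
      obtain ⟨y, hy, hxy⟩ := hsur _ _ h1
      have h2 : x - y ∈ Ideal.span {r} := Ideal.Quotient.eq.mp hxy.symm
      obtain ⟨a, ha⟩ := Ideal.mem_span_singleton'.mp h2
      have hle : Ideal.ofList rs * Submodule.annihilator I ≤ Submodule.annihilator I :=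
        Ideal.mul_le_right
      have hyJ : y ∈ Submodule.annihilator I := hle hy
      have h3 : a * r ∈ Submodule.annihilator I := by
        rw [ha]
        exact Ideal.sub_mem _ hx hyJ
      have h4 : a ∈ Submodule.annihilator I := by
        rw [Submodule.mem_annihilator] at h3 ⊢
        intro b hb
        apply hr
        have h5 := h3 b hb
        simp only [smul_eq_mul] at h5 ⊢
        rw [mul_zero, ← h5]
        ring
      have h5 : x = r * a + y := by
        rw [mul_comm, ha]; ring
      rw [h5, Ideal.sup_mul]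
      exact Submodule.add_mem_sup (Ideal.mul_mem_mul (Ideal.mem_span_singleton_self r) h4) hy

end K90.GorLink
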