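import Mathlib.RingTheory.Kaehler.Basic
import Mathlib.LinearAlgebra.TensorProduct.Quotient
import Mathlib.RingTheory.MvPolynomial.Ideal
import Mathlib.Algebra.MvPolynomial.PDeriv
import Mathlib.Algebra.MvPolynomial.Division
import Mathlib.Tactic.LinearCombination

/-!
# Injectivity of the first map of the conormal sequence of a square-zero quotient
-/

set_option autoImplicit false
universe u

namespace K90.KerTensor

open TensorProduct

section Gen

variable {A B P : Type u} [CommRing A] [CommRing B] [CommRing P] [Algebra A B] [Algebra A P]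
  (ψ : P →ₐ[A] B) (hψ : Function.Surjective ψ) (g : P) (hg : ∀ p, ψ p = 0 → ∃ c, p = c * g)
  (hg0 : ψ g = 0) (I : Ideal B) (hI : ∀ a ∈ I, ∀ b ∈ I, a * b = 0)
  (D : P →ₗ[A] (I × B × B)) (hD : ∀ p q, D (p * q) = ψ p • D q + ψ q • D p)

/-- relations -/
def rel : Submodule B (I × B × B) where
  carrier := {z | ∃ b : B, z.1 = b • (D g).1 ∧ z.2.1 - b * (D g).2.1 ∈ I ∧
    z.2.2 - b * (D g).2.2 ∈ I}
  add_mem' := by
    rintro z w ⟨b, h1, h2, h3⟩ ⟨c, k1, k2, k3⟩
    refine ⟨b + c, ?_, ?_, ?_⟩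
    · rw [Prod.fst_add, h1, k1, add_smul]
    · have := I.add_mem h2 k2
      have e : (z + w).2.1 - (b + c) * (D g).2.1 =
          z.2.1 - b * (D g).2.1 + (w.2.1 - c * (D g).2.1) := by
        rw [Prod.snd_add, Prod.fst_add]; ring
      rw [e]; exact this
    · have := I.add_mem h3 k3
      have e : (z + w).2.2 - (b + c) * (D g).2.2 =
          z.2.2 - b * (D g).2.2 + (w.2.2 - c * (D g).2.2) := by
        rw [Prod.snd_add, Prod.snd_add]; ring
      rw [e]; exact this
  zero_mem' := ⟨0, by simp, by simp, by simp⟩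
  smul_mem' := by
    rintro a z ⟨b, h1, h2, h3⟩
    refine ⟨a * b, ?_, ?_, ?_⟩
    · rw [Prod.smul_fst, h1, mul_smul]
    · have := I.mul_mem_left a h2
      have e : (a • z).2.1 - (a * b) * (D g).2.1 = a * (z.2.1 - b * (D g).2.1) := by
        rw [Prod.smul_snd, Prod.smul_fst, smul_eq_mul]; ring
      rw [e]; exact this
    · have := I.mul_mem_left a h3
      have e : (a • z).2.2 - (a * b) * (D g).2.2 = a * (z.2.2 - b * (D g).2.2) := by
        rw [Prod.smul_snd, Prod.smul_snd, smul_eq_mul]; ring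
      rw [e]; exact this

include hg hg0 hD in
theorem mem_rel_of (p : P) (hp : ψ p = 0) : D p ∈ rel g I D := by
  obtain ⟨c, rfl⟩ := hg p hp
  rw [hD, hg0, zero_smul, add_zero]
  exact ⟨ψ c, by simp, by simp, by simp⟩

include hψ hg hg0 hD in
theorem exists_derivation : ∃ δ : Derivation A B ((I × B × B) ⧸ rel g I D),
    ∀ p, δ (ψ p) = Submodule.Quotient.mk (D p) := by
  have hwd : ∀ p p' : P, ψ p = ψ p' →
      (Submodule.Quotient.mk (D p) : (I × B × B) ⧸ rel g I D) = Submodule.Quotient.mk (D p') := by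
    intro p p' h
    rw [Submodule.Quotient.eq, ← map_sub]
    exact mem_rel_of ψ g hg hg0 I D hD _ (by rw [map_sub, h, sub_self])
  let s : B → P := Function.surjInv hψ
  have hs : ∀ b, ψ (s b) = b := Function.surjInv_eq hψ
  let δ₀ : B →ₗ[A] ((I × B × B) ⧸ rel g I D) :=
    { toFun := fun b => Submodule.Quotient.mk (D (s b))
      map_add' := fun a b => by
        rw [← Submodule.Quotient.mk_add, ← map_add]
        exact hwd _ _ (by rw [map_add, hs, hs, hs])
      map_smul' := fun a b => by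
        rw [RingHom.id_apply, ← Submodule.Quotient.mk_smul, ← map_smul]
        exact hwd _ _ (by rw [map_smul, hs, hs]) }
  refine ⟨Derivation.mk' δ₀ fun a b => ?_, fun p => hwd _ _ (hs _)⟩
  have h1 : δ₀ (a * b) = Submodule.Quotient.mk (D (s a * s b)) :=
    hwd _ _ (by rw [map_mul, hs, hs, hs])
  rw [h1, hD, hs, hs]
  rfl

include hψ hg hg0 hD hI in
theorem kerToTensor_injective
    (hreg : ∀ b, b * (D g).2.1 ∈ I → b * (D g).2.2 ∈ I → b ∈ I)
    (hlift : ∀ i : I, ∃ p, ψ p = i ∧ (D p).1 = i ∧ (D p).2.1 ∈ I ∧ (D p).2.2 ∈ I) :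
    Function.Injective (KaehlerDifferential.kerToTensor A B (B ⧸ I)) := by
  rw [injective_iff_map_eq_zero]
  rintro ⟨i, hi⟩ h0
  have hi' : i ∈ I := Ideal.Quotient.eq_zero_iff_mem.mp hi
  rw [KaehlerDifferential.kerToTensor_apply] at h0
  obtain ⟨δ, hδ⟩ := exists_derivation ψ hψ g hg hg0 I D hD
  have h1 := congrArg (LinearMap.lTensor (B ⧸ I) δ.liftKaehlerDifferential) h0
  rw [LinearMap.lTensor_tmul, map_zero, Derivation.liftKaehlerDifferential_comp_D] at h1
  have h2 := congrArg (quotTensorEquivQuotSMul ((I × B × B) ⧸ rel g I D) I) h1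
  rw [quotTensorEquivQuotSMul_mk_one_tmul, map_zero, Submodule.Quotient.mk_eq_zero] at h2
  have h3 : (I • ⊤ : Submodule B ((I × B × B) ⧸ rel g I D)) = ⊥ := by
    rw [eq_bot_iff, Submodule.smul_le]
    intro r hr n _
    obtain ⟨⟨u, v, w⟩, rfl⟩ := Submodule.Quotient.mk_surjective _ n
    rw [Submodule.mem_bot, ← Submodule.Quotient.mk_smul, Submodule.Quotient.mk_eq_zero]
    refine ⟨0, ?_, ?_, ?_⟩
    · ext
      rw [zero_smul]
      exact hI r hr u u.2
    · rw [zero_mul, sub_zero]
      exact I.mul_mem_right _ hr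
    · rw [zero_mul, sub_zero]
      exact I.mul_mem_right _ hr
  rw [h3, Submodule.mem_bot] at h2
  obtain ⟨p, hp, hp1, hp2, hp3⟩ := hlift ⟨i, hi'⟩
  change δ i = 0 at h2
  rw [← show ψ p = i from hp, hδ, Submodule.Quotient.mk_eq_zero] at h2
  obtain ⟨b, hb1, hb2, hb3⟩ := h2
  have hbI : b ∈ I := by
    apply hreg
    · have := I.sub_mem hp2 hb2
      rwa [sub_sub_cancel] at this
    · have := I.sub_mem hp3 hb3
      rwa [sub_sub_cancel] at this
  rw [hp1] at hb1
  have h4 : i = b * ((D g).1 : B) := congrArg Subtype.val hb1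
  have h5 : i = 0 := by rw [h4]; exact hI b hbI _ (D g).1.2
  exact Subtype.ext h5

end Gen

section Poly

open MvPolynomial

variable {A : Type u} [CommRing A]

theorem mul_eq_zero_of (t : A) (f : MvPolynomial (Fin 2) A) (h : f * (X 0 * X 1 - C t) = 0) :
    f = 0 := by
  by_contra hne
  obtain ⟨m, hm, hmax⟩ := Finset.exists_max_image f.support (fun m => m 0)
    (MvPolynomial.support_nonempty.mpr hne)
  have h1 : f * (X 0 * X 1) = C t * f := by linear_combination h
  have h2 : (X 0 * X 1 : MvPolynomial (Fin 2) A) =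
      monomial (Finsupp.single 0 1 + Finsupp.single 1 1) 1 := by
    rw [X, X, monomial_mul, one_mul]
  have h3 := congrArg (coeff (m + (Finsupp.single 0 1 + Finsupp.single 1 1))) h1
  rw [h2, coeff_mul_monomial, mul_one, coeff_C_mul] at h3
  have h4 : coeff (m + (Finsupp.single 0 1 + Finsupp.single 1 1)) f = 0 := by
    by_contra hcon
    have := hmax _ (mem_support_iff.mpr hcon)
    simp at this
  rw [h4, mul_zero] at h3
  exact (mem_support_iff.mp hm) h3

theorem X_mul_cancel (i : Fin 2) (f g : MvPolynomial (Fin 2) A) (h : f * X i = g * X i) : f = g := by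
  ext m
  have := congrArg (coeff (m + Finsupp.single i 1)) h
  rwa [coeff_mul_X, coeff_mul_X] at this

theorem X_dvd_of (q r : MvPolynomial (Fin 2) A) (h : q * X 1 = r * X 0) :
    ∃ q', q = q' * X 0 := by
  have h1 : (X 0 : MvPolynomial (Fin 2) A) ∣ q := by
    rw [show (X 0 : MvPolynomial (Fin 2) A) = monomial (Finsupp.single 0 1) 1 from rfl,
      MvPolynomial.monomial_one_dvd_iff_modMonomial_eq_zero]
    ext m
    by_cases hm : Finsupp.single 0 1 ≤ m
    · rw [coeff_modMonomial_of_le _ hm, coeff_zero]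
    · rw [coeff_modMonomial_of_not_le _ hm, coeff_zero]
      have h2 := congrArg (coeff (m + Finsupp.single 1 1)) h
      rw [coeff_mul_X, coeff_mul_X'] at h2
      rw [h2, if_neg]
      intro hcon
      apply hm
      rw [Finsupp.mem_support_iff, Finsupp.add_apply] at hcon
      rw [Finsupp.single_le_iff]
      have : (Finsupp.single (1 : Fin 2) 1 : Fin 2 →₀ ℕ) 0 = 0 := by
        rw [Finsupp.single_apply]; simp
      rw [this, add_zero] at hcon
      omega
  obtain ⟨q', hq'⟩ := h1
  exact ⟨q', by rw [hq', mul_comm]⟩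

theorem node_reg (t : A) (p q r : MvPolynomial (Fin 2) A) (h0 : p * X 0 = q * (X 0 * X 1 - C t))
    (h1 : p * X 1 = r * (X 0 * X 1 - C t)) : ∃ s, p = s * (X 0 * X 1 - C t) := by
  have h2 : (q * X 1 - r * X 0) * (X 0 * X 1 - C t) = 0 := by
    linear_combination - X 1 * h0 + X 0 * h1
  have h3 := sub_eq_zero.mp (mul_eq_zero_of t _ h2)
  obtain ⟨q', rfl⟩ := X_dvd_of q r h3
  refine ⟨q', X_mul_cancel 0 _ _ ?_⟩
  rw [h0]; ring

end Poly

section Main

open MvPolynomial

variable {A R B : Type u} [CommRing A] [CommRing R] [CommRing B] [Algebra A R] [Algebra R B]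
  [Algebra A B] [IsScalarTower A R B] (fst : R →+* A)
  (hfst : ∀ a, fst (algebraMap A R a) = a)

/-- the endomorphism of `R[X,Y]` induced by `R → A → R`. -/
noncomputable def sig : MvPolynomial (Fin 2) R →+* MvPolynomial (Fin 2) R :=
  MvPolynomial.map ((algebraMap A R).comp fst)

include hfst in
theorem sub_sig_mem (p : MvPolynomial (Fin 2) R) :
    p - sig fst p ∈ Ideal.map (C (σ := Fin 2)) (RingHom.ker fst) := by
  rw [← MvPolynomial.ker_map, RingHom.mem_ker, map_sub, sub_eq_zero, sig,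
    MvPolynomial.map_map]
  have : fst.comp ((algebraMap A R).comp fst) = fst := RingHom.ext fun a => hfst (fst a)
  rw [this]

theorem sig_eq_zero (p : MvPolynomial (Fin 2) R)
    (hp : p ∈ Ideal.map (C (σ := Fin 2)) (RingHom.ker fst)) : sig fst p = 0 := by
  rw [← MvPolynomial.ker_map, RingHom.mem_ker] at hp
  rw [sig, ← MvPolynomial.map_map, hp, map_zero]

include hfst in
theorem sig_algebraMap (a : A) : sig fst (algebraMap A (MvPolynomial (Fin 2) R) a) =
    algebraMap A (MvPolynomial (Fin 2) R) a := by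
  rw [sig, IsScalarTower.algebraMap_apply A R (MvPolynomial (Fin 2) R), MvPolynomial.algebraMap_eq,
    MvPolynomial.map_C, RingHom.comp_apply, hfst]

variable (ψ : MvPolynomial (Fin 2) R →ₐ[R] B)

omit [Algebra A R] [Algebra A B] [IsScalarTower A R B] in
theorem map_mem (p : MvPolynomial (Fin 2) R)
    (hp : p ∈ Ideal.map (C (σ := Fin 2)) (RingHom.ker fst)) :
    ψ p ∈ Ideal.map (algebraMap R B) (RingHom.ker fst) := by
  have h2 : (ψ : MvPolynomial (Fin 2) R →+* B).comp (C (σ := Fin 2)) = algebraMap R B := by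
    ext a
    exact ψ.commutes a
  rw [← h2, ← Ideal.map_map]
  exact Ideal.mem_map_of_mem (ψ : MvPolynomial (Fin 2) R →+* B) hp

omit [Algebra A R] [Algebra A B] [IsScalarTower A R B] in
theorem exists_of_mem (hψ : Function.Surjective ψ) (b : B)
    (hb : b ∈ Ideal.map (algebraMap R B) (RingHom.ker fst)) :
    ∃ p ∈ Ideal.map (C (σ := Fin 2)) (RingHom.ker fst), ψ p = b := by
  have h2 : (ψ : MvPolynomial (Fin 2) R →+* B).comp (C (σ := Fin 2)) = algebraMap R B := by
    ext a
    exact ψ.commutes a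
  rw [← h2, ← Ideal.map_map] at hb
  exact (Ideal.mem_map_iff_of_surjective (ψ : MvPolynomial (Fin 2) R →+* B) hψ).mp hb

/-- The derivation with values in `I × B × B`. -/
noncomputable def der : MvPolynomial (Fin 2) R →ₗ[A]
    (Ideal.map (algebraMap R B) (RingHom.ker fst)) × B × B where
  toFun p := (⟨ψ (p - sig fst p), map_mem fst ψ _ (sub_sig_mem fst hfst p)⟩,
    ψ (pderiv 0 p), ψ (pderiv 1 p))
  map_add' p q := by
    ext
    · simp only [map_add, map_sub, Prod.fst_add, Submodule.coe_add]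
      ring
    · simp only [map_add, Prod.snd_add, Prod.fst_add]
    · simp only [map_add, Prod.snd_add]
  map_smul' a p := by
    have h1 : a • p = algebraMap A (MvPolynomial (Fin 2) R) a * p := Algebra.smul_def a p
    have h2 : ψ (algebraMap A (MvPolynomial (Fin 2) R) a) = algebraMap A B a := by
      rw [IsScalarTower.algebraMap_apply A R (MvPolynomial (Fin 2) R),
        IsScalarTower.algebraMap_apply A R B]
      exact ψ.commutes _
    have h3 : ∀ i, pderiv i (a • p) = a • pderiv i p := fun i => by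
      rw [← algebraMap_smul R a p, Derivation.map_smul, algebraMap_smul]
    have h4 : ∀ q : MvPolynomial (Fin 2) R, ψ (a • q) = a • ψ q := fun q => by
      rw [Algebra.smul_def, map_mul, h2, ← Algebra.smul_def]
    ext
    · change ψ (a • p - sig fst (a • p)) = a • ψ (p - sig fst p)
      rw [← h4, h1, map_mul, sig_algebraMap fst hfst, ← mul_sub, Algebra.smul_def]
    · change ψ (pderiv 0 (a • p)) = a • ψ (pderiv 0 p)
      rw [h3, h4]
    · change ψ (pderiv 1 (a • p)) = a • ψ (pderiv 1 p)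
      rw [h3, h4]

theorem der_mul (hJ : ∀ a ∈ Ideal.map (algebraMap R B) (RingHom.ker fst),
      ∀ b ∈ Ideal.map (algebraMap R B) (RingHom.ker fst), a * b = 0)
    (p q : MvPolynomial (Fin 2) R) :
    der fst hfst ψ (p * q) = ψ p • der fst hfst ψ q + ψ q • der fst hfst ψ p := by
  have h := hJ _ (map_mem fst ψ _ (sub_sig_mem fst hfst p)) _
    (map_mem fst ψ _ (sub_sig_mem fst hfst q))
  ext
  · change ψ (p * q - sig fst (p * q)) = ψ p * ψ (q - sig fst q) + ψ q * ψ (p - sig fst p)
    simp only [map_mul, map_sub] at h ⊢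
    linear_combination -h
  · change ψ (pderiv 0 (p * q)) = ψ p * ψ (pderiv 0 q) + ψ q * ψ (pderiv 0 p)
    rw [pderiv_mul, map_add, map_mul, map_mul]
    ring
  · change ψ (pderiv 1 (p * q)) = ψ p * ψ (pderiv 1 q) + ψ q * ψ (pderiv 1 p)
    rw [pderiv_mul, map_add, map_mul, map_mul]
    ring

include hfst in
theorem main (hJ : ∀ a ∈ RingHom.ker fst, ∀ b ∈ RingHom.ker fst, a * b = 0) (τ : R)
    (hψ : Function.Surjective ψ)
    (hker : RingHom.ker ψ = Ideal.span {X 0 * X 1 - C τ}) :
    Function.Injective (KaehlerDifferential.kerToTensor A B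
      (B ⧸ Ideal.map (algebraMap R B) (RingHom.ker fst))) := by
  have hJ2 : RingHom.ker fst ^ 2 = ⊥ := by
    rw [eq_bot_iff, pow_two, Ideal.mul_le]
    intro a ha b hb
    rw [hJ a ha b hb]
    exact Ideal.zero_mem _
  have hI : ∀ a ∈ Ideal.map (algebraMap R B) (RingHom.ker fst),
      ∀ b ∈ Ideal.map (algebraMap R B) (RingHom.ker fst), a * b = 0 := by
    intro a ha b hb
    have h1 : a * b ∈ Ideal.map (algebraMap R B) (RingHom.ker fst) ^ 2 := by
      rw [pow_two]; exact Ideal.mul_mem_mul ha hb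
    rw [← Ideal.map_pow, hJ2, Ideal.map_bot] at h1
    exact h1
  have hg : ∀ p : MvPolynomial (Fin 2) R, ψ p = 0 → ∃ c, p = c * (X 0 * X 1 - C τ) := by
    intro p hp
    have h1 : p ∈ RingHom.ker ψ := hp
    rw [hker] at h1
    obtain ⟨c, hc⟩ := Ideal.mem_span_singleton'.mp h1
    exact ⟨c, hc.symm⟩
  have hg0 : ψ (X 0 * X 1 - C τ) = 0 := by
    have h1 : (X 0 * X 1 - C τ) ∈ RingHom.ker ψ := by
      rw [hker]; exact Ideal.mem_span_singleton_self _
    exact h1
  have h10 : pderiv (R := R) (0 : Fin 2) (X 1) = 0 := pderiv_X_of_ne (by decide)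
  have h01 : pderiv (R := R) (1 : Fin 2) (X 0) = 0 := pderiv_X_of_ne (by decide)
  refine kerToTensor_injective ((ψ.restrictScalars A)) hψ (X 0 * X 1 - C τ) hg hg0 _ hI
    (der fst hfst ψ) (der_mul fst hfst ψ hI) ?_ ?_
  · intro b hb1 hb2
    have e1 : (der fst hfst ψ (X 0 * X 1 - C τ)).2.1 = ψ (X 1) := by
      change ψ (pderiv 0 (X 0 * X 1 - C τ)) = _
      rw [map_sub, pderiv_mul, pderiv_X_self, pderiv_C, h10]
      simp
    have e2 : (der fst hfst ψ (X 0 * X 1 - C τ)).2.2 = ψ (X 0) := by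
      change ψ (pderiv 1 (X 0 * X 1 - C τ)) = _
      rw [map_sub, pderiv_mul, pderiv_X_self, pderiv_C, h01]
      simp
    rw [e1] at hb1
    rw [e2] at hb2
    obtain ⟨p, rfl⟩ := hψ b
    rw [← map_mul] at hb1 hb2
    -- reduce modulo `J`
    have key : ∀ q : MvPolynomial (Fin 2) R, ψ q ∈ Ideal.map (algebraMap R B) (RingHom.ker fst) →
        ∃ c, MvPolynomial.map fst q = c * (X 0 * X 1 - C (fst τ)) := by
      intro q hq
      obtain ⟨r, hr, hrq⟩ := exists_of_mem fst ψ hψ _ hq
      obtain ⟨c, hc⟩ := hg (q - r) (by rw [map_sub, hrq, sub_self])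
      rw [← MvPolynomial.ker_map, RingHom.mem_ker] at hr
      refine ⟨MvPolynomial.map fst c, ?_⟩
      have := congrArg (MvPolynomial.map fst) hc
      rw [map_sub, hr, sub_zero, map_mul, map_sub, map_mul, map_X, map_X, map_C] at this
      exact this
    obtain ⟨c, hc⟩ := key _ hb2
    obtain ⟨d, hd⟩ := key _ hb1
    rw [map_mul, map_X] at hc hd
    obtain ⟨s, hs⟩ := node_reg (fst τ) _ _ _ hc hd
    -- lift `s`
    let s' : MvPolynomial (Fin 2) R := MvPolynomial.map (algebraMap A R) s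
    have hs' : MvPolynomial.map fst s' = s := by
      rw [MvPolynomial.map_map]
      have : fst.comp (algebraMap A R) = RingHom.id A := by ext a; exact hfst a
      rw [this, MvPolynomial.map_id]
    have h1 : p - s' * (X 0 * X 1 - C τ) ∈ Ideal.map (C (σ := Fin 2)) (RingHom.ker fst) := by
      rw [← MvPolynomial.ker_map, RingHom.mem_ker, map_sub, map_mul, hs', hs, map_sub, map_mul,
        map_X, map_X, map_C, sub_self]
    have h2 := map_mem fst ψ _ h1
    rw [map_sub, map_mul, hg0, mul_zero, sub_zero] at h2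
    exact h2
  · rintro ⟨i, hi⟩
    obtain ⟨p, hp, hpi⟩ := exists_of_mem fst ψ hψ i hi
    have hd : ∀ j, pderiv j p ∈ Ideal.map (C (σ := Fin 2)) (RingHom.ker fst) := by
      intro j
      rw [← MvPolynomial.ker_map, RingHom.mem_ker] at hp ⊢
      rw [← MvPolynomial.pderiv_map, hp, map_zero]
    refine ⟨p, hpi, ?_, map_mem fst ψ _ (hd 0), map_mem fst ψ _ (hd 1)⟩
    ext
    change ψ (p - sig fst p) = i
    rw [sig_eq_zero fst p hp, sub_zero, hpi]

end Main

end K90.KerTensor
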