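import Groth.Agent.CycA.ChiRec2
import Groth.Agent.Flat2H.TorDimPoly
import Mathlib.RingTheory.Length
import Mathlib.LinearAlgebra.TensorProduct.Prod

/-!
# Tor of the residue field of a node with itself
-/

set_option autoImplicit false
universe u

namespace K90.NodeTor

open IsLocalRing TensorProduct Groth.Agent.CycA.ChiRec
  Groth.Agent.CycA.ChiRec2 Groth.Agent.CycA.TorBasic Groth.Agent.CycA.TorShift

variable {A : Type u} [CommRing A]

/-- multiplication by `x` on `A/(y)` when `xy = 0`. -/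
noncomputable def mulMap (x y : A) (hxy : x * y = 0) : (A ⧸ Ideal.span {y}) →ₗ[A] A :=
  (Ideal.span {y}).liftQ (LinearMap.toSpanSingleton A A x) (by
    intro a ha
    obtain ⟨b, rfl⟩ := Ideal.mem_span_singleton'.mp ha
    rw [LinearMap.mem_ker, LinearMap.toSpanSingleton_apply, smul_eq_mul, mul_assoc, mul_comm y x,
      hxy, mul_zero])

theorem mulMap_mk (x y : A) (hxy : x * y = 0) (a : A) :
    mulMap x y hxy (Ideal.Quotient.mk _ a) = a * x := rfl

theorem mulMap_injective (x y : A) (hxy : x * y = 0) (h : ∀ a, a * x = 0 → a ∈ Ideal.span {y}) :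
    Function.Injective (mulMap x y hxy) := by
  rw [injective_iff_map_eq_zero]
  intro a ha
  obtain ⟨a, rfl⟩ := Ideal.Quotient.mk_surjective a
  rw [mulMap_mk] at ha
  exact Ideal.Quotient.eq_zero_iff_mem.mpr (h a ha)

theorem mulMap_exact (x y : A) (hxy : x * y = 0) :
    Function.Exact (mulMap x y hxy) (Ideal.span {x}).mkQ := by
  intro a
  rw [Submodule.mkQ_apply, Submodule.Quotient.mk_eq_zero]
  constructor
  · intro ha
    obtain ⟨b, rfl⟩ := Ideal.mem_span_singleton'.mp ha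
    exact ⟨Ideal.Quotient.mk _ b, mulMap_mk x y hxy b⟩
  · rintro ⟨b, rfl⟩
    obtain ⟨b, rfl⟩ := Ideal.Quotient.mk_surjective b
    rw [mulMap_mk]
    exact Ideal.mul_mem_left _ _ (Ideal.mem_span_singleton_self x)

/-- a map into `m P` becomes zero after tensoring with `A/m`. -/
theorem rTensor_eq_zero {K : Type u} [AddCommGroup K] [Module A K] (m : Ideal A)
    (f : K →ₗ[A] A) (hf : ∀ k, f k ∈ m) : LinearMap.rTensor (A ⧸ m) f = 0 := by
  refine TensorProduct.ext' fun k c => ?_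
  obtain ⟨c, rfl⟩ := Ideal.Quotient.mk_surjective c
  rw [LinearMap.rTensor_tmul, LinearMap.zero_apply]
  have h1 : (f k : A) ⊗ₜ[A] (Ideal.Quotient.mk m c) =
      (1 : A) ⊗ₜ[A] (f k • Ideal.Quotient.mk m c) := by
    rw [← TensorProduct.smul_tmul, smul_eq_mul, mul_one]
  rw [h1]
  have h2 : f k • (Ideal.Quotient.mk m c) = 0 := by
    change Ideal.Quotient.mk m (f k * c) = 0
    exact Ideal.Quotient.eq_zero_iff_mem.mpr (Ideal.mul_mem_right _ _ (hf k))
  rw [h2, TensorProduct.tmul_zero]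

theorem tor_one {K M : Type u} [AddCommGroup K] [Module A K] [AddCommGroup M] [Module A M]
    (m : Ideal A) (f : K →ₗ[A] A) (g : A →ₗ[A] M) (hf : Function.Injective f)
    (h : Function.Exact f g) (hg : Function.Surjective g) (hfm : ∀ k, f k ∈ m) :
    Nonempty (DRing.Tor A 1 M (A ⧸ m) ≃ₗ[A] K ⊗[A] (A ⧸ m)) := by
  obtain ⟨e⟩ := shiftL_one f g hf h hg (A ⧸ m)
  refine ⟨e.trans ((LinearEquiv.ofEq _ ⊤ ?_).trans Submodule.topEquiv)⟩
  rw [rTensor_eq_zero m f hfm, LinearMap.ker_zero]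

theorem length_quot_tensor (m : Ideal A) [m.IsMaximal] (y : A) (hy : y ∈ m) :
    Module.length A ((A ⧸ Ideal.span {y}) ⊗[A] (A ⧸ m)) = 1 := by
  have e := quotTensorEquivQuotSMul (A ⧸ m) (Ideal.span {y})
  rw [e.length_eq]
  have h1 : (Ideal.span {y} • ⊤ : Submodule A (A ⧸ m)) = ⊥ := by
    rw [eq_bot_iff, Submodule.smul_le]
    intro r hr n _
    obtain ⟨n, rfl⟩ := Ideal.Quotient.mk_surjective n
    have h2 : r ∈ m := (Ideal.span_singleton_le_iff_mem m).mpr hy hr
    rw [Submodule.mem_bot]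
    exact Ideal.Quotient.eq_zero_iff_mem.mpr (Ideal.mul_mem_right _ _ h2)
  rw [(Submodule.quotEquivOfEqBot _ h1).length_eq]
  have : IsSimpleModule A (A ⧸ m) := isSimpleModule_iff_isCoatom.mpr (Ideal.isMaximal_def.mp ‹_›)
  exact Module.length_eq_one A (A ⧸ m)

variable (m : Ideal A) [m.IsMaximal] (x y : A) (hxy : x * y = 0)
  (hx : ∀ a, a * x = 0 → a ∈ Ideal.span {y}) (hy : ∀ a, a * y = 0 → a ∈ Ideal.span {x})
  (hxm : x ∈ m) (hym : y ∈ m)

include hxy hx hy hxm hym in
theorem length_tor (n : ℕ) :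
    Module.length A (DRing.Tor A (n + 1) (A ⧸ Ideal.span {x}) (A ⧸ m)) = 1 ∧
      Module.length A (DRing.Tor A (n + 1) (A ⧸ Ideal.span {y}) (A ⧸ m)) = 1 := by
  have hyx : y * x = 0 := by rw [mul_comm, hxy]
  induction n with
  | zero =>
    obtain ⟨e⟩ := tor_one m (mulMap x y hxy) _ (mulMap_injective x y hxy hx)
      (mulMap_exact x y hxy) (Submodule.mkQ_surjective _) (by
        intro k
        obtain ⟨k, rfl⟩ := Ideal.Quotient.mk_surjective k
        rw [mulMap_mk]
        exact Ideal.mul_mem_left _ _ hxm)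
    obtain ⟨e'⟩ := tor_one m (mulMap y x hyx) _ (mulMap_injective y x hyx hy)
      (mulMap_exact y x hyx) (Submodule.mkQ_surjective _) (by
        intro k
        obtain ⟨k, rfl⟩ := Ideal.Quotient.mk_surjective k
        rw [mulMap_mk]
        exact Ideal.mul_mem_left _ _ hym)
    rw [zero_add, e.length_eq, e'.length_eq]
    exact ⟨length_quot_tensor m y hym, length_quot_tensor m x hxm⟩
  | succ n ih =>
    obtain ⟨e⟩ := shiftL (mulMap x y hxy) _ (mulMap_injective x y hxy hx)
      (mulMap_exact x y hxy) (Submodule.mkQ_surjective _) n (A ⧸ m)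
    obtain ⟨e'⟩ := shiftL (mulMap y x hyx) _ (mulMap_injective y x hyx hy)
      (mulMap_exact y x hyx) (Submodule.mkQ_surjective _) n (A ⧸ m)
    refine ⟨?_, ?_⟩
    · rw [← ih.2]
      exact e.length_eq
    · rw [← ih.1]
      exact e'.length_eq

/-- Tor of a product. -/
theorem length_tor_prod (M₁ M₂ N : Type u) [AddCommGroup M₁] [Module A M₁] [AddCommGroup M₂]
    [Module A M₂] [AddCommGroup N] [Module A N] (n : ℕ) :
    Module.length A (DRing.Tor A n (M₁ × M₂) N) =
      Module.length A (DRing.Tor A n M₁ N) + Module.length A (DRing.Tor A n M₂ N) := by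
  obtain ⟨δ, h1, h2, h3, h4⟩ := les_fst (LinearMap.inl A M₁ M₂) (LinearMap.snd A M₁ M₂)
    LinearMap.inl_injective LinearMap.snd_surjective .inl_snd N
  refine Module.length_eq_add_of_exact _ _ ?_ ?_ (h1 n)
  · have h5 : mapL (LinearMap.fst A M₁ M₂) n N ∘ₗ mapL (LinearMap.inl A M₁ M₂) n N =
        LinearMap.id := by
      rw [← mapL_comp, LinearMap.fst_comp_inl, mapL_id]
    exact Function.LeftInverse.injective (g := mapL (LinearMap.fst A M₁ M₂) n N)
      (fun z => LinearMap.congr_fun h5 z)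
  · have h5 : mapL (LinearMap.snd A M₁ M₂) n N ∘ₗ mapL (LinearMap.inr A M₁ M₂) n N =
        LinearMap.id := by
      rw [← mapL_comp, LinearMap.snd_comp_inr, mapL_id]
    exact Function.RightInverse.surjective (g := mapL (LinearMap.inr A M₁ M₂) n N)
      (fun z => LinearMap.congr_fun h5 z)

include hxy hx hy hxm hym in
theorem main (hdisj : ∀ a b, a * x + b * y = 0 → a * x = 0 ∧ b * y = 0)
    (hm : m = Ideal.span {x, y}) (n : ℕ) :
    Module.length A (DRing.Tor A (n + 1) (A ⧸ m) (A ⧸ m)) = 2 := by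
  have hyx : y * x = 0 := by rw [mul_comm, hxy]
  let f : ((A ⧸ Ideal.span {y}) × (A ⧸ Ideal.span {x})) →ₗ[A] A :=
    (mulMap x y hxy).coprod (mulMap y x hyx)
  have hf : ∀ a b, f (Ideal.Quotient.mk _ a, Ideal.Quotient.mk _ b) = a * x + b * y :=
    fun a b => by
      simp only [f, LinearMap.coprod_apply, mulMap_mk]
  have hinj : Function.Injective f := by
    rw [injective_iff_map_eq_zero]
    rintro ⟨a, b⟩ hab
    obtain ⟨a, rfl⟩ := Ideal.Quotient.mk_surjective a
    obtain ⟨b, rfl⟩ := Ideal.Quotient.mk_surjective b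
    rw [hf] at hab
    obtain ⟨h1, h2⟩ := hdisj a b hab
    rw [Prod.mk_eq_zero]
    exact ⟨Ideal.Quotient.eq_zero_iff_mem.mpr (hx a h1), Ideal.Quotient.eq_zero_iff_mem.mpr (hy b h2)⟩
  have hex : Function.Exact f m.mkQ := by
    intro a
    rw [Submodule.mkQ_apply, Submodule.Quotient.mk_eq_zero]
    constructor
    · intro ha
      rw [hm] at ha
      obtain ⟨b, c, rfl⟩ := Ideal.mem_span_pair.mp ha
      exact ⟨(Ideal.Quotient.mk _ b, Ideal.Quotient.mk _ c), hf b c⟩
    · rintro ⟨⟨b, c⟩, rfl⟩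
      obtain ⟨b, rfl⟩ := Ideal.Quotient.mk_surjective b
      obtain ⟨c, rfl⟩ := Ideal.Quotient.mk_surjective c
      rw [hf]
      exact Ideal.add_mem _ (Ideal.mul_mem_left _ _ hxm) (Ideal.mul_mem_left _ _ hym)
  cases n with
  | zero =>
    obtain ⟨e⟩ := tor_one m f _ hinj hex (Submodule.mkQ_surjective _) (by
      rintro ⟨b, c⟩
      obtain ⟨b, rfl⟩ := Ideal.Quotient.mk_surjective b
      obtain ⟨c, rfl⟩ := Ideal.Quotient.mk_surjective c
      rw [hf]
      exact Ideal.add_mem _ (Ideal.mul_mem_left _ _ hxm) (Ideal.mul_mem_left _ _ hym))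
    rw [zero_add, e.length_eq, (TensorProduct.prodLeft A A _ _ _).length_eq, Module.length_prod,
      length_quot_tensor m y hym, length_quot_tensor m x hxm]
    rfl
  | succ n =>
    obtain ⟨e⟩ := shiftL f _ hinj hex (Submodule.mkQ_surjective _) n (A ⧸ m)
    obtain ⟨h1, h2⟩ := length_tor m x y hxy hx hy hxm hym n
    have h3 : Module.length A (DRing.Tor A (n + 1 + 1) (A ⧸ m) (A ⧸ m)) =
      Module.length A (DRing.Tor A (n + 1) ((A ⧸ Ideal.span {y}) × (A ⧸ Ideal.span {x})) (A ⧸ m)) :=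
      e.length_eq
    rw [h3, length_tor_prod, h1, h2]
    rfl

include hxy hx hy hxm hym in
theorem not_hasProjectiveDimensionLT
    (hdisj : ∀ a b, a * x + b * y = 0 → a * x = 0 ∧ b * y = 0)
    (hm : m = Ideal.span {x, y}) (n : ℕ) :
    ¬ CategoryTheory.HasProjectiveDimensionLT (ModuleCat.of A (A ⧸ m)) n := by
  intro h
  have h1 : CategoryTheory.HasProjectiveDimensionLT (ModuleCat.of A (A ⧸ m)) (n + 1) :=
    CategoryTheory.hasProjectiveDimensionLT_of_ge _ n (n + 1) (by omega)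
  have h2 := Groth.Agent.Flat2H.TorDimPoly.hasTorDimLE_of_hasProjectiveDimensionLE h1
    (A ⧸ m) (n + 1) (by omega)
  have h3 := main m x y hxy hx hy hxm hym hdisj hm n
  rw [Module.length_eq_zero] at h3
  exact absurd h3 (by norm_num)

end K90.NodeTor
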