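import Mathlib.RingTheory.LocalRing.ResidueField.Ideal
import Mathlib.FieldTheory.Isaacs
import Mathlib.RingTheory.Polynomial.ScaleRoots
import Mathlib.Algebra.Polynomial.Lifts
import Mathlib.RingTheory.Localization.Integer
import Mathlib.FieldTheory.IsAlgClosed.AlgebraicClosure
import Mathlib.RingTheory.Algebraic.Integral

/-!
# Residue fields of an integral algebra in which every monic polynomial has a root
-/

set_option autoImplicit false
universe u

namespace K90.RootsAll

open Polynomial

variable {A T : Type u} [CommRing A] [CommRing T] [Algebra A T]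

theorem isIntegral_map (hint : ∀ t : T, IsIntegral A t) (Q : Ideal T) [Q.IsPrime] :
    (Ideal.ResidueField.map (Q.comap (algebraMap A T)) Q (algebraMap A T) rfl).IsIntegral := by
  set f := Ideal.ResidueField.map (Q.comap (algebraMap A T)) Q (algebraMap A T) rfl with hf
  let _ : Algebra (Q.comap (algebraMap A T)).ResidueField Q.ResidueField := f.toAlgebra
  have h1 : ∀ t : T, f.IsIntegralElem (algebraMap T Q.ResidueField t) := by
    intro t
    obtain ⟨P, hP, hPt⟩ := hint t
    refine ⟨P.map (algebraMap A _), hP.map _, ?_⟩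
    rw [eval₂_map]
    have h2 : f.comp (algebraMap A (Q.comap (algebraMap A T)).ResidueField) =
        (algebraMap T Q.ResidueField).comp (algebraMap A T) := by
      ext a
      exact Ideal.ResidueField.map_algebraMap _ _ _ _ a
    rw [h2, ← hom_eval₂, hPt, map_zero]
  intro x
  obtain ⟨a, b, -, rfl⟩ := IsFractionRing.div_surjective (A := T ⧸ Q) x
  obtain ⟨a, rfl⟩ := Ideal.Quotient.mk_surjective a
  obtain ⟨b, rfl⟩ := Ideal.Quotient.mk_surjective b
  have ha : IsAlgebraic (Q.comap (algebraMap A T)).ResidueField (algebraMap T Q.ResidueField a) :=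
    IsIntegral.isAlgebraic (h1 a)
  have hb : IsAlgebraic (Q.comap (algebraMap A T)).ResidueField (algebraMap T Q.ResidueField b) :=
    IsIntegral.isAlgebraic (h1 b)
  have hab := (ha.mul hb.inv).isIntegral
  rw [div_eq_mul_inv]
  exact hab

theorem isAlgClosed (hint : ∀ t : T, IsIntegral A t)
    (hroot : ∀ P : A[X], P.Monic → 0 < P.natDegree → ∃ t : T, aeval t P = 0)
    (Q : Ideal T) [Q.IsPrime] : IsAlgClosed Q.ResidueField := by
  have hi := isIntegral_map hint Q
  set p := Q.comap (algebraMap A T) with hp
  set f := Ideal.ResidueField.map p Q (algebraMap A T) rfl with hf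
  let _ : Algebra p.ResidueField Q.ResidueField := f.toAlgebra
  have halg : Algebra.IsAlgebraic p.ResidueField Q.ResidueField :=
    ⟨fun x => IsIntegral.isAlgebraic (hi x)⟩
  have : IsAlgClosure p.ResidueField Q.ResidueField := by
    apply IsAlgClosure.of_exists_root
    intro g hg hirr
    classical
    obtain ⟨b, hb⟩ := IsLocalization.exist_integer_multiples_of_finset (nonZeroDivisors (A ⧸ p))
      ((Finset.range (g.natDegree + 1)).image g.coeff)
    have hb0 : algebraMap (A ⧸ p) p.ResidueField b ≠ 0 := by
      intro h0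
      have := (map_eq_zero_iff _ (IsFractionRing.injective (A ⧸ p) p.ResidueField)).mp h0
      exact nonZeroDivisors.ne_zero b.2 this
    set c : p.ResidueField := algebraMap (A ⧸ p) p.ResidueField b with hc
    have hmon : (scaleRoots g c).Monic := (monic_scaleRoots_iff c).mpr hg
    have hlift : scaleRoots g c ∈ Polynomial.lifts (algebraMap A p.ResidueField) := by
      rw [Polynomial.lifts_iff_coeff_lifts]
      have hsurj : ∀ x : A ⧸ p, algebraMap (A ⧸ p) p.ResidueField x ∈
          Set.range (algebraMap A p.ResidueField) := by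
        intro x
        obtain ⟨x, rfl⟩ := Ideal.Quotient.mk_surjective x
        exact ⟨x, rfl⟩
      intro i
      rw [coeff_scaleRoots]
      rcases lt_trichotomy i g.natDegree with hlt | rfl | hgt
      · obtain ⟨m, hm⟩ : ∃ m, g.natDegree - i = m + 1 := ⟨g.natDegree - i - 1, by omega⟩
        obtain ⟨y, hy⟩ := hb (g.coeff i) (Finset.mem_image_of_mem _ (by simp; omega))
        have hy' : g.coeff i * c = algebraMap (A ⧸ p) p.ResidueField y := by
          rw [hy, Algebra.smul_def, mul_comm]
        rw [hm, pow_succ', ← mul_assoc, hy', hc, ← map_pow, ← map_mul]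
        exact hsurj _
      · rw [hg.coeff_natDegree, Nat.sub_self, pow_zero, mul_one]
        exact ⟨1, map_one _⟩
      · rw [coeff_eq_zero_of_natDegree_lt hgt, zero_mul]
        exact ⟨0, map_zero _⟩
    obtain ⟨P, hPmap, hPdeg, hPmon⟩ := Polynomial.lifts_and_natDegree_eq_and_monic hlift hmon
    obtain ⟨t, ht⟩ := hroot P hPmon (by
      rw [hPdeg, natDegree_scaleRoots]
      exact hirr.natDegree_pos)
    have h2 : f.comp (algebraMap A p.ResidueField) =
        (algebraMap T Q.ResidueField).comp (algebraMap A T) := by
      ext a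
      exact Ideal.ResidueField.map_algebraMap _ _ _ _ a
    have h3 : eval₂ f (algebraMap T Q.ResidueField t) (scaleRoots g c) = 0 := by
      rw [← hPmap, eval₂_map, h2, ← hom_eval₂]
      have : eval₂ (algebraMap A T) t P = 0 := ht
      rw [this, map_zero]
    have hfc : f c ≠ 0 := (map_ne_zero f).mpr hb0
    refine ⟨(f c)⁻¹ * algebraMap T Q.ResidueField t, ?_⟩
    have h4 : algebraMap T Q.ResidueField t = f c * ((f c)⁻¹ * algebraMap T Q.ResidueField t) := by
      rw [← mul_assoc, mul_inv_cancel₀ hfc, one_mul]
    rw [h4, scaleRoots_eval₂_mul] at h3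
    exact (mul_eq_zero.mp h3).resolve_left (pow_ne_zero _ hfc)
  exact this.isAlgClosed

end K90.RootsAll
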