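import Mathlib.LinearAlgebra.TensorProduct.Tower
import Mathlib.LinearAlgebra.TensorProduct.Quotient
import Mathlib.RingTheory.TensorProduct.Basic
import Mathlib.RingTheory.Ideal.Quotient.Operations
import Mathlib.Algebra.Module.Projective
import Mathlib.Algebra.Exact.Basic

/-!
# Submodules of `R/n ⊗ H` and lifting direct summands along a square zero ideal

* `tmul_mem_baseChange_iff`, `baseChange_eq_iff`: the submodule `F.baseChange (R ⧸ 𝔫)` is the image of `F`.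
* `exists_section`: sections over a projective submodule with prescribed reduction.
-/

set_option autoImplicit false
universe u v

namespace K90.SummandLift

open TensorProduct

variable {R : Type u} [CommRing R] (𝔫 : Ideal R) {H : Type v} [AddCommGroup H] [Module R H]

theorem exists_tmul (z : (R ⧸ 𝔫) ⊗[R] H) : ∃ x : H, (1 : R ⧸ 𝔫) ⊗ₜ[R] x = z :=
  TensorProduct.mk_surjective R H (R ⧸ 𝔫) Ideal.Quotient.mk_surjective z

theorem tmul_eq_zero_iff (x : H) :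
    (1 : R ⧸ 𝔫) ⊗ₜ[R] x = 0 ↔ x ∈ 𝔫 • (⊤ : Submodule R H) := by
  rw [← (quotTensorEquivQuotSMul H 𝔫).map_eq_zero_iff, quotTensorEquivQuotSMul_mk_one_tmul,
    Submodule.Quotient.mk_eq_zero]

theorem tmul_mem_baseChange_iff (F : Submodule R H) (x : H) :
    (1 : R ⧸ 𝔫) ⊗ₜ[R] x ∈ F.baseChange (R ⧸ 𝔫) ↔ x ∈ F ⊔ 𝔫 • (⊤ : Submodule R H) := by
  constructor
  · intro h
    have key : ∀ z ∈ F.baseChange (R ⧸ 𝔫),
        quotTensorEquivQuotSMul H 𝔫 z ∈ F.map (Submodule.mkQ (𝔫 • (⊤ : Submodule R H))) := by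
      intro z hz
      rw [Submodule.baseChange_eq_span] at hz
      induction hz using Submodule.span_induction with
      | mem y hy =>
        obtain ⟨a, ha, rfl⟩ := hy
        exact ⟨a, ha, (quotTensorEquivQuotSMul_mk_one_tmul 𝔫 a).symm⟩
      | zero => rw [map_zero]; exact Submodule.zero_mem _
      | add y z _ _ hy hz => rw [map_add]; exact Submodule.add_mem _ hy hz
      | smul a y _ hy =>
        obtain ⟨r, rfl⟩ := Ideal.Quotient.mk_surjective a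
        have h1 : (Ideal.Quotient.mk 𝔫 r) • y = r • y := by
          rw [← Ideal.Quotient.algebraMap_eq, algebraMap_smul]
        rw [h1, map_smul]
        exact Submodule.smul_mem _ _ hy
    have h1 := key _ h
    rw [quotTensorEquivQuotSMul_mk_one_tmul] at h1
    have h2 : x ∈ (F.map (Submodule.mkQ (𝔫 • (⊤ : Submodule R H)))).comap
      (Submodule.mkQ (𝔫 • (⊤ : Submodule R H))) := h1
    rwa [Submodule.comap_map_mkQ, sup_comm] at h2
  · intro h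
    obtain ⟨y, hy, n, hn, rfl⟩ := Submodule.mem_sup.mp h
    rw [TensorProduct.tmul_add, (tmul_eq_zero_iff 𝔫 n).mpr hn, add_zero]
    exact Submodule.tmul_mem_baseChange_of_mem _ hy

/-- The preimage in `H` of a submodule of `R/n ⊗ H`. -/
def pre (Fb : Submodule (R ⧸ 𝔫) ((R ⧸ 𝔫) ⊗[R] H)) : Submodule R H :=
  (Fb.restrictScalars R).comap (TensorProduct.mk R (R ⧸ 𝔫) H 1)

theorem mem_pre (Fb : Submodule (R ⧸ 𝔫) ((R ⧸ 𝔫) ⊗[R] H)) (x : H) :
    x ∈ pre 𝔫 Fb ↔ (1 : R ⧸ 𝔫) ⊗ₜ[R] x ∈ Fb := Iff.rfl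

theorem smul_le_pre (Fb : Submodule (R ⧸ 𝔫) ((R ⧸ 𝔫) ⊗[R] H)) :
    𝔫 • (⊤ : Submodule R H) ≤ pre 𝔫 Fb := by
  intro x hx
  rw [mem_pre, (tmul_eq_zero_iff 𝔫 x).mpr hx]
  exact Fb.zero_mem

theorem baseChange_eq_iff (F : Submodule R H) (Fb : Submodule (R ⧸ 𝔫) ((R ⧸ 𝔫) ⊗[R] H)) :
    F.baseChange (R ⧸ 𝔫) = Fb ↔ F ⊔ 𝔫 • (⊤ : Submodule R H) = pre 𝔫 Fb := by
  constructor
  · rintro rfl
    ext x
    rw [mem_pre, tmul_mem_baseChange_iff]
  · intro h
    ext z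
    obtain ⟨x, rfl⟩ := exists_tmul 𝔫 z
    rw [tmul_mem_baseChange_iff, h, mem_pre]

variable {H₁ H₂ : Type v} [AddCommGroup H₁] [Module R H₁] [AddCommGroup H₂] [Module R H₂]

/-- Translation of the hypothesis on the intersection with `R/n ⊗ H₁`. -/
theorem h1_iff (f : H₁ →ₗ[R] H) (F₁ : Submodule R H₁)
    (Fb : Submodule (R ⧸ 𝔫) ((R ⧸ 𝔫) ⊗[R] H)) :
    Fb ⊓ LinearMap.range (f.baseChange (R ⧸ 𝔫)) =
      Submodule.map (f.baseChange (R ⧸ 𝔫)) (F₁.baseChange (R ⧸ 𝔫)) ↔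
    pre 𝔫 Fb ⊓ (LinearMap.range f ⊔ 𝔫 • (⊤ : Submodule R H)) = F₁.map f ⊔ 𝔫 • (⊤ : Submodule R H) := by
  have hr : ∀ x : H, (1 : R ⧸ 𝔫) ⊗ₜ[R] x ∈ LinearMap.range (f.baseChange (R ⧸ 𝔫)) ↔
      x ∈ LinearMap.range f ⊔ 𝔫 • (⊤ : Submodule R H) := by
    intro x
    constructor
    · rintro ⟨z, hz⟩
      obtain ⟨y, rfl⟩ := exists_tmul 𝔫 z
      rw [LinearMap.baseChange_tmul, ← sub_eq_zero, ← TensorProduct.tmul_sub, tmul_eq_zero_iff] at hz
      have h1 : x = f y - (f y - x) := by abel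
      rw [h1]
      exact Submodule.sub_mem _ (Submodule.mem_sup_left ⟨y, rfl⟩) (Submodule.mem_sup_right hz)
    · intro h
      obtain ⟨_, ⟨y, rfl⟩, n, hn, rfl⟩ := Submodule.mem_sup.mp h
      rw [TensorProduct.tmul_add, (tmul_eq_zero_iff 𝔫 n).mpr hn, add_zero]
      exact ⟨1 ⊗ₜ y, LinearMap.baseChange_tmul _ _ _⟩
  have hm : ∀ x : H, (1 : R ⧸ 𝔫) ⊗ₜ[R] x ∈ Submodule.map (f.baseChange (R ⧸ 𝔫)) (F₁.baseChange (R ⧸ 𝔫)) ↔
      x ∈ F₁.map f ⊔ 𝔫 • (⊤ : Submodule R H) := by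
    intro x
    constructor
    · rintro ⟨z, hz', hz⟩
      obtain ⟨y, rfl⟩ := exists_tmul 𝔫 z
      obtain ⟨y1, hy1, n, hn, rfl⟩ := Submodule.mem_sup.mp ((tmul_mem_baseChange_iff 𝔫 F₁ y).mp hz')
      rw [TensorProduct.tmul_add, (tmul_eq_zero_iff 𝔫 n).mpr hn, add_zero,
        LinearMap.baseChange_tmul, ← sub_eq_zero, ← TensorProduct.tmul_sub, tmul_eq_zero_iff] at hz
      have h1 : x = f y1 - (f y1 - x) := by abel
      rw [h1]
      exact Submodule.sub_mem _ (Submodule.mem_sup_left ⟨y1, hy1, rfl⟩) (Submodule.mem_sup_right hz)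
    · intro h
      obtain ⟨_, ⟨y, hy, rfl⟩, n, hn, rfl⟩ := Submodule.mem_sup.mp h
      rw [TensorProduct.tmul_add, (tmul_eq_zero_iff 𝔫 n).mpr hn, add_zero]
      exact ⟨1 ⊗ₜ y, Submodule.tmul_mem_baseChange_of_mem _ hy, LinearMap.baseChange_tmul _ _ _⟩
  constructor
  · intro h
    ext x
    rw [Submodule.mem_inf, mem_pre, ← hr, ← Submodule.mem_inf, h, hm]
  · intro h
    ext z
    obtain ⟨x, rfl⟩ := exists_tmul 𝔫 z
    rw [Submodule.mem_inf, hr, hm, ← mem_pre, ← Submodule.mem_inf, h]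

/-- Translation of the hypothesis on the image in `R/n ⊗ H₂`. -/
theorem h2_iff (g : H →ₗ[R] H₂) (hg : Function.Surjective g) (F₂ : Submodule R H₂)
    (Fb : Submodule (R ⧸ 𝔫) ((R ⧸ 𝔫) ⊗[R] H)) :
    Submodule.map (g.baseChange (R ⧸ 𝔫)) Fb = F₂.baseChange (R ⧸ 𝔫) ↔
      (pre 𝔫 Fb).map g = F₂ ⊔ 𝔫 • (⊤ : Submodule R H₂) := by
  have hm : ∀ x : H₂, (1 : R ⧸ 𝔫) ⊗ₜ[R] x ∈ Submodule.map (g.baseChange (R ⧸ 𝔫)) Fb ↔
      x ∈ (pre 𝔫 Fb).map g := by
    intro x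
    constructor
    · rintro ⟨z, hz', hz⟩
      obtain ⟨y, rfl⟩ := exists_tmul 𝔫 z
      rw [LinearMap.baseChange_tmul, ← sub_eq_zero, ← TensorProduct.tmul_sub, tmul_eq_zero_iff] at hz
      have h3 : g y - x ∈ (𝔫 • (⊤ : Submodule R H)).map g := by
        rwa [Submodule.map_smul'', Submodule.map_top, LinearMap.range_eq_top.mpr hg]
      obtain ⟨w, hw, hw'⟩ := h3
      refine ⟨y - w, Submodule.sub_mem _ hz' (smul_le_pre 𝔫 Fb hw), ?_⟩
      rw [map_sub, hw']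
      abel
    · rintro ⟨y, hy, rfl⟩
      exact ⟨1 ⊗ₜ y, hy, LinearMap.baseChange_tmul _ _ _⟩
  constructor
  · intro h
    ext x
    rw [← hm, h, tmul_mem_baseChange_iff]
  · intro h
    ext z
    obtain ⟨x, rfl⟩ := exists_tmul 𝔫 z
    rw [hm, h, tmul_mem_baseChange_iff]

/-- A submodule with projective quotient has a complement. -/
theorem exists_isCompl (F : Submodule R H) [Module.Projective R (H ⧸ F)] :
    ∃ C : Submodule R H, IsCompl F C := by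
  obtain ⟨s, hs⟩ := Module.projective_lifting_property F.mkQ LinearMap.id F.mkQ_surjective
  refine ⟨LinearMap.range s, ?_⟩
  constructor
  · rw [Submodule.disjoint_def]
    rintro x hx ⟨y, rfl⟩
    have h1 : F.mkQ (s y) = y := LinearMap.congr_fun hs y
    rw [Submodule.mkQ_apply, (Submodule.Quotient.mk_eq_zero F).mpr hx] at h1
    rw [← h1, map_zero]
  · rw [codisjoint_iff, eq_top_iff]
    intro x _
    have h1 : x - s (F.mkQ x) ∈ F := by
      rw [← Submodule.Quotient.mk_eq_zero, ← Submodule.mkQ_apply, map_sub, sub_eq_zero]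
      exact (LinearMap.congr_fun hs (F.mkQ x)).symm
    have h2 : x = (x - s (F.mkQ x)) + s (F.mkQ x) := by abel
    rw [h2]
    exact Submodule.add_mem_sup h1 ⟨_, rfl⟩

/-- A submodule of a projective module with a complement is projective. -/
theorem projective_of_isCompl [Module.Projective R H] {F C : Submodule R H} (h : IsCompl F C) :
    Module.Projective R F := by
  refine Module.Projective.of_split F.subtype (F.projectionOnto C h) ?_
  ext x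
  simp

section main

variable {𝔫} (f : H₁ →ₗ[R] H) (g : H →ₗ[R] H₂) (hf : Function.Injective f)
  (hg : Function.Surjective g) (hfg : Function.Exact f g)
  (F₁ : Submodule R H₁) (F₂ : Submodule R H₂) (G : Submodule R H)
  (h0 : 𝔫 • (⊤ : Submodule R H) ≤ G)
  (h1 : G ⊓ (LinearMap.range f ⊔ 𝔫 • (⊤ : Submodule R H)) = F₁.map f ⊔ 𝔫 • (⊤ : Submodule R H))
  (h2 : G.map g = F₂ ⊔ 𝔫 • (⊤ : Submodule R H₂))

include h2 in
/-- A section of `g` over `F₂` with values in `G`. -/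
theorem exists_section [Module.Projective R F₂] :
    ∃ s : F₂ →ₗ[R] H, (∀ y, s y ∈ G) ∧ ∀ y, g (s y) = y := by
  have hsur : Function.Surjective
      ((g.domRestrict (G ⊓ F₂.comap g)).codRestrict F₂ (fun x => x.2.2)) := by
    rintro ⟨y, hy⟩
    have h3 : y ∈ G.map g := by rw [h2]; exact Submodule.mem_sup_left hy
    obtain ⟨x, hx, rfl⟩ := h3
    exact ⟨⟨x, hx, hy⟩, rfl⟩
  obtain ⟨s, hs⟩ := Module.projective_lifting_property _ LinearMap.id hsur
  refine ⟨(G ⊓ F₂.comap g).subtype ∘ₗ s, fun y => (s y).2.1, fun y => ?_⟩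
  exact congrArg Subtype.val (LinearMap.congr_fun hs y)

/-- The submodule built from `F₁` and a section over `F₂`. -/
def build (s : F₂ →ₗ[R] H) : Submodule R H := F₁.map f ⊔ LinearMap.range s

variable {F₁ F₂}
variable (s : F₂ →ₗ[R] H) (hs : ∀ y, g (s y) = y)

include hfg hs in
theorem build_inf : build f F₁ F₂ s ⊓ LinearMap.range f = F₁.map f := by
  apply le_antisymm
  · rintro x ⟨hx, z, rfl⟩
    obtain ⟨_, ⟨x₁, hx₁, rfl⟩, _, ⟨y, rfl⟩, hxy⟩ := Submodule.mem_sup.mp hx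
    have h3 := congrArg g hxy
    rw [map_add, hfg.apply_apply_eq_zero, hfg.apply_apply_eq_zero, hs, zero_add] at h3
    have h4 : y = 0 := Subtype.ext h3
    rw [h4, map_zero, add_zero] at hxy
    rw [← hxy]
    exact ⟨x₁, hx₁, rfl⟩
  · rintro _ ⟨x, hx, rfl⟩
    exact ⟨Submodule.mem_sup_left ⟨x, hx, rfl⟩, x, rfl⟩

include hfg hs in
theorem build_map : (build f F₁ F₂ s).map g = F₂ := by
  apply le_antisymm
  · rintro _ ⟨x, hx, rfl⟩
    obtain ⟨_, ⟨x₁, hx₁, rfl⟩, _, ⟨y, rfl⟩, rfl⟩ := Submodule.mem_sup.mp hx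
    rw [map_add, hfg.apply_apply_eq_zero, hs, zero_add]
    exact y.2
  · intro y hy
    exact ⟨s ⟨y, hy⟩, Submodule.mem_sup_right ⟨_, rfl⟩, hs _⟩

include hg hfg h0 h1 h2 hs in
theorem build_sup (hsG : ∀ y, s y ∈ G) : build f F₁ F₂ s ⊔ 𝔫 • (⊤ : Submodule R H) = G := by
  apply le_antisymm
  · refine sup_le (sup_le ?_ ?_) h0
    · have h3 : F₁.map f ≤ G ⊓ (LinearMap.range f ⊔ 𝔫 • (⊤ : Submodule R H)) := by
        rw [h1]; exact le_sup_left
      exact h3.trans inf_le_left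
    · rintro _ ⟨y, rfl⟩; exact hsG y
  · intro z hz
    have h3 : g z ∈ G.map g := ⟨z, hz, rfl⟩
    rw [h2] at h3
    obtain ⟨y, hy, n, hn, hyn⟩ := Submodule.mem_sup.mp h3
    have h4 : n ∈ (𝔫 • (⊤ : Submodule R H)).map g := by
      rwa [Submodule.map_smul'', Submodule.map_top, LinearMap.range_eq_top.mpr hg]
    obtain ⟨n', hn', rfl⟩ := h4
    have h5 : g (z - s ⟨y, hy⟩ - n') = 0 := by
      rw [map_sub, map_sub, hs, ← hyn]; simp
    obtain ⟨x, hx⟩ := (hfg _).mp h5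
    have h6 : z - s ⟨y, hy⟩ - n' ∈ G ⊓ (LinearMap.range f ⊔ 𝔫 • (⊤ : Submodule R H)) := by
      refine ⟨G.sub_mem (G.sub_mem hz (hsG _)) (h0 hn'), ?_⟩
      exact Submodule.mem_sup_left ⟨x, hx⟩
    rw [h1] at h6
    have h7 : z = (z - s ⟨y, hy⟩ - n') + s ⟨y, hy⟩ + n' := by abel
    rw [h7]
    refine Submodule.add_mem _ (Submodule.add_mem _ ?_ ?_) ?_
    · have h8 : F₁.map f ⊔ 𝔫 • (⊤ : Submodule R H) ≤ build f F₁ F₂ s ⊔ 𝔫 • (⊤ : Submodule R H) :=
        sup_le_sup_right le_sup_left _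
      exact h8 h6
    · exact Submodule.mem_sup_left (Submodule.mem_sup_right ⟨_, rfl⟩)
    · exact Submodule.mem_sup_right hn'

include hf hg hfg hs in
theorem build_isCompl [Module.Projective R (H₁ ⧸ F₁)] [Module.Projective R (H₂ ⧸ F₂)]
    [Module.Projective R H₂] :
    ∃ C : Submodule R H, IsCompl (build f F₁ F₂ s) C := by
  obtain ⟨C₁, hC₁⟩ := exists_isCompl F₁
  obtain ⟨C₂, hC₂⟩ := exists_isCompl F₂
  obtain ⟨t, ht⟩ := Module.projective_lifting_property g LinearMap.id hg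
  have ht' : ∀ y, g (t y) = y := fun y => LinearMap.congr_fun ht y
  refine ⟨C₁.map f ⊔ C₂.map t, ?_, ?_⟩
  · rw [Submodule.disjoint_def]
    intro x hx hx'
    obtain ⟨_, ⟨x₁, hx₁, rfl⟩, _, ⟨y, rfl⟩, hxy⟩ := Submodule.mem_sup.mp hx
    obtain ⟨_, ⟨x₁', hx₁', rfl⟩, _, ⟨y', hy', rfl⟩, hxy'⟩ := Submodule.mem_sup.mp hx'
    have h3 : g x = y := by
      rw [← hxy, map_add, hfg.apply_apply_eq_zero, hs, zero_add]
    have h4 : g x = y' := by
      rw [← hxy', map_add, hfg.apply_apply_eq_zero, ht', zero_add]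
    have h5 : g x = 0 := Submodule.disjoint_def.mp hC₂.disjoint _ (h3 ▸ y.2) (h4 ▸ hy')
    have h6 : y = 0 := Subtype.ext (h3 ▸ h5)
    have h7 : y' = 0 := h4 ▸ h5
    rw [h6, map_zero, add_zero] at hxy
    rw [h7, map_zero, add_zero] at hxy'
    have h8 : x₁ = x₁' := hf (hxy.trans hxy'.symm)
    have h9 : x₁ = 0 := Submodule.disjoint_def.mp hC₁.disjoint _ hx₁ (h8 ▸ hx₁')
    rw [← hxy, h9, map_zero]
  · rw [codisjoint_iff, eq_top_iff]
    intro x _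
    obtain ⟨y, hy, y', hy', hyy⟩ : ∃ y ∈ F₂, ∃ y' ∈ C₂, y + y' = g x := by
      have : g x ∈ F₂ ⊔ C₂ := by rw [hC₂.sup_eq_top]; trivial
      exact Submodule.mem_sup.mp this
    have h3 : g (x - s ⟨y, hy⟩ - t y') = 0 := by
      rw [map_sub, map_sub, hs, ht', ← hyy]; simp
    obtain ⟨z, hz⟩ := (hfg _).mp h3
    obtain ⟨z₁, hz₁, z₂, hz₂, rfl⟩ : ∃ z₁ ∈ F₁, ∃ z₂ ∈ C₁, z₁ + z₂ = z := by
      have : z ∈ F₁ ⊔ C₁ := by rw [hC₁.sup_eq_top]; trivial
      exact Submodule.mem_sup.mp this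
    have h4 : x = (f z₁ + s ⟨y, hy⟩) + (f z₂ + t y') := by
      rw [map_add] at hz
      have : x = (x - s ⟨y, hy⟩ - t y') + s ⟨y, hy⟩ + t y' := by abel
      rw [this, ← hz]; abel
    rw [h4]
    refine Submodule.add_mem_sup ?_ ?_
    · exact Submodule.add_mem_sup ⟨z₁, hz₁, rfl⟩ ⟨_, rfl⟩
    · exact Submodule.add_mem_sup ⟨z₂, hz₂, rfl⟩ ⟨y', hy', rfl⟩

end main

end K90.SummandLift
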