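import Groth.Agent.CAlg.K90.SummandLift
import Mathlib.LinearAlgebra.Projection

/-!
# The torsor structure on the set of lifts of a direct summand along a square zero ideal
-/

set_option autoImplicit false
universe u v

namespace K90.SummandTorsor

open K90.SummandLift

variable {R : Type u} [CommRing R] {𝔫 : Ideal R} {H H₁ H₂ : Type v} [AddCommGroup H] [Module R H]
  [AddCommGroup H₁] [Module R H₁] [AddCommGroup H₂] [Module R H₂]

/-- For a direct summand `F`, `F ∩ 𝔫H = 𝔫F`. -/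
theorem mem_smul_of_isCompl {F C : Submodule R H} (h : IsCompl F C) {x : H} (hx : x ∈ F)
    (hn : x ∈ 𝔫 • (⊤ : Submodule R H)) : x ∈ 𝔫 • F := by
  let p : H →ₗ[R] H := F.subtype ∘ₗ F.projectionOnto C h
  have hp : p x = x := by
    have : F.projectionOnto C h x = ⟨x, hx⟩ := Submodule.projectionOnto_apply_left h ⟨x, hx⟩
    change F.subtype (F.projectionOnto C h x) = x
    rw [this]
    rfl
  have h1 : p x ∈ (𝔫 • (⊤ : Submodule R H)).map p := ⟨x, hn, rfl⟩
  rw [hp, Submodule.map_smul''] at h1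
  refine Submodule.smul_mono le_rfl ?_ h1
  rintro _ ⟨y, -, rfl⟩
  exact (F.projectionOnto C h y).2

variable {f : H₁ →ₗ[R] H} {g : H →ₗ[R] H₂} (hf : Function.Injective f)
  (hg : Function.Surjective g) (hfg : Function.Exact f g)
  {F₁ : Submodule R H₁} {F₂ : Submodule R H₂} {G F F' : Submodule R H}

theorem f_mem (y : H₁) (hy : y ∈ 𝔫 • (⊤ : Submodule R H₁)) : f y ∈ 𝔫 • (⊤ : Submodule R H) := by
  have h1 : f y ∈ (𝔫 • (⊤ : Submodule R H₁)).map f := ⟨y, hy, rfl⟩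
  rw [Submodule.map_smul''] at h1
  exact Submodule.smul_mono le_rfl le_top h1

/-- The automorphism `x ↦ x + f (u (g x))`. -/
noncomputable def Phi (f : H₁ →ₗ[R] H) (g : H →ₗ[R] H₂) (hfg : Function.Exact f g)
    (u : H₂ →ₗ[R] H₁) : H ≃ₗ[R] H :=
  LinearEquiv.ofLinearMap (LinearMap.id + f ∘ₗ u ∘ₗ g) (LinearMap.id - f ∘ₗ u ∘ₗ g)
    (by
      ext x
      simp [hfg.apply_apply_eq_zero])
    (by
      ext x
      simp [hfg.apply_apply_eq_zero])

theorem Phi_apply (u : H₂ →ₗ[R] H₁) (x : H) : Phi f g hfg u x = x + f (u (g x)) := rfl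

theorem map_Phi (u : H₂ →ₗ[R] H₁) (F : Submodule R H) :
    Submodule.map (LinearMap.id + f ∘ₗ u ∘ₗ g) F = Submodule.map (Phi f g hfg u).toLinearMap F := rfl

include hfg in
theorem part1 (hFc : ∃ C : Submodule R H, IsCompl F C)
    (hF1 : F ⊓ LinearMap.range f = F₁.map f) (hFG : F ⊔ 𝔫 • (⊤ : Submodule R H) = G)
    (hF2 : F.map g = F₂) (u : H₂ →ₗ[R] H₁) (hu : ∀ y, u y ∈ 𝔫 • (⊤ : Submodule R H₁)) :
    (∃ C : Submodule R H, IsCompl (Submodule.map (LinearMap.id + f ∘ₗ u ∘ₗ g) F) C) ∧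
      (Submodule.map (LinearMap.id + f ∘ₗ u ∘ₗ g) F) ⊓ LinearMap.range f = F₁.map f ∧
      (Submodule.map (LinearMap.id + f ∘ₗ u ∘ₗ g) F) ⊔ 𝔫 • (⊤ : Submodule R H) = G ∧
      Submodule.map g (Submodule.map (LinearMap.id + f ∘ₗ u ∘ₗ g) F) = F₂ := by
  rw [map_Phi hfg]
  have hgPhi : ∀ x, g (Phi f g hfg u x) = g x := fun x => by
    rw [Phi_apply, map_add, hfg.apply_apply_eq_zero, add_zero]
  refine ⟨?_, ?_, ?_, ?_⟩
  · obtain ⟨C, hC⟩ := hFc
    exact ⟨C.map (Phi f g hfg u).toLinearMap,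
      (Submodule.orderIsoMapComap (Phi f g hfg u)).isCompl hC⟩
  · apply le_antisymm
    · rintro _ ⟨⟨x, hx, rfl⟩, z, hz⟩
      have h1 : g x = 0 := by
        rw [← hgPhi x]
        change g ((Phi f g hfg u).toLinearMap x) = 0
        rw [← hz, hfg.apply_apply_eq_zero]
      have h2 : (Phi f g hfg u).toLinearMap x = x := by
        change Phi f g hfg u x = x
        rw [Phi_apply, h1, map_zero, map_zero, add_zero]
      rw [h2, ← hF1]
      exact ⟨hx, (hfg x).mp h1⟩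
    · intro x hx
      have hx' := hx
      rw [← hF1] at hx'
      refine ⟨⟨x, hx'.1, ?_⟩, hx'.2⟩
      obtain ⟨z, rfl⟩ := hx'.2
      change Phi f g hfg u (f z) = f z
      rw [Phi_apply, hfg.apply_apply_eq_zero, map_zero, map_zero, add_zero]
  · rw [← hFG]
    apply le_antisymm
    · refine sup_le ?_ le_sup_right
      rintro _ ⟨x, hx, rfl⟩
      change x + f (u (g x)) ∈ _
      exact Submodule.add_mem_sup hx (f_mem _ (hu _))
    · refine sup_le ?_ le_sup_right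
      intro x hx
      have h1 : x = Phi f g hfg u x + -f (u (g x)) := by rw [Phi_apply]; abel
      rw [h1]
      exact Submodule.add_mem_sup ⟨x, hx, rfl⟩ (Submodule.neg_mem _ (f_mem _ (hu _)))
  · rw [← hF2]
    ext y
    constructor
    · rintro ⟨_, ⟨x, hx, rfl⟩, rfl⟩
      exact ⟨x, hx, (hgPhi x).symm⟩
    · rintro ⟨x, hx, rfl⟩
      exact ⟨_, ⟨x, hx, rfl⟩, hgPhi x⟩

include hf hfg in
theorem part2 (hF1 : F ⊓ LinearMap.range f = F₁.map f) (hF2 : F.map g = F₂)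
    {C₁ : Submodule R H₁} (hC₁ : IsCompl F₁ C₁)
    (u : H₂ →ₗ[R] H₁) (hu : ∀ y, u y ∈ 𝔫 • (⊤ : Submodule R H₁)) :
    Submodule.map (LinearMap.id + f ∘ₗ u ∘ₗ g) F = F ↔ ∀ y ∈ F₂, u y ∈ 𝔫 • F₁ := by
  rw [map_Phi hfg]
  have hF1' : ∀ x ∈ F₁, f x ∈ F := fun x hx => by
    have : f x ∈ F ⊓ LinearMap.range f := by rw [hF1]; exact ⟨x, hx, rfl⟩
    exact this.1
  constructor
  · intro h y hy
    rw [← hF2] at hy
    obtain ⟨x, hx, rfl⟩ := hy
    have h1 : Phi f g hfg u x ∈ Submodule.map (Phi f g hfg u).toLinearMap F := ⟨x, hx, rfl⟩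
    rw [h, Phi_apply] at h1
    have h2 : f (u (g x)) ∈ F ⊓ LinearMap.range f := by
      refine ⟨?_, _, rfl⟩
      have := F.sub_mem h1 hx
      rwa [add_sub_cancel_left] at this
    rw [hF1] at h2
    obtain ⟨z, hz, hz'⟩ := h2
    rw [hf hz'] at hz
    exact mem_smul_of_isCompl hC₁ hz (hu _)
  · intro h
    have key : ∀ x ∈ F, f (u (g x)) ∈ F := fun x hx =>
      hF1' _ (Submodule.smul_le_right (h _ (hF2 ▸ ⟨x, hx, rfl⟩)))
    apply le_antisymm
    · rintro _ ⟨x, hx, rfl⟩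
      exact F.add_mem hx (key x hx)
    · intro x hx
      refine ⟨x - f (u (g x)), F.sub_mem hx (key x hx), ?_⟩
      change Phi f g hfg u _ = _
      rw [Phi_apply, map_sub, hfg.apply_apply_eq_zero, sub_zero]
      abel

include hf hg hfg in
theorem part3 (h1 : G ⊓ (LinearMap.range f ⊔ 𝔫 • (⊤ : Submodule R H)) =
      F₁.map f ⊔ 𝔫 • (⊤ : Submodule R H))
    [Module.Projective R F₂] [Module.Projective R H₂]
    {C₂ : Submodule R H₂} (hC₂ : IsCompl F₂ C₂)
    (hF1 : F ⊓ LinearMap.range f = F₁.map f) (hFG : F ⊔ 𝔫 • (⊤ : Submodule R H) = G)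
    (hF2 : F.map g = F₂)
    (hF1' : F' ⊓ LinearMap.range f = F₁.map f) (hFG' : F' ⊔ 𝔫 • (⊤ : Submodule R H) = G)
    (hF2' : F'.map g = F₂) :
    ∃ u : H₂ →ₗ[R] H₁, (∀ y : H₂, u y ∈ 𝔫 • (⊤ : Submodule R H₁)) ∧
      F' = Submodule.map (LinearMap.id + f ∘ₗ u ∘ₗ g) F := by
  have hsec : ∀ E : Submodule R H, E.map g = F₂ → ∃ s : F₂ →ₗ[R] H, (∀ y, s y ∈ E) ∧
      ∀ y, g (s y) = y := by
    intro E hE
    have hsur : Function.Surjective
        ((g.domRestrict E).codRestrict F₂ (fun x => hE ▸ ⟨x, x.2, rfl⟩)) := by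
      rintro ⟨y, hy⟩
      have h3 := hy
      rw [← hE] at h3
      obtain ⟨x, hx, rfl⟩ := h3
      exact ⟨⟨x, hx⟩, rfl⟩
    obtain ⟨s, hs⟩ := Module.projective_lifting_property _ LinearMap.id hsur
    exact ⟨E.subtype ∘ₗ s, fun y => (s y).2,
      fun y => congrArg Subtype.val (LinearMap.congr_fun hs y)⟩
  obtain ⟨s, hsF, hs⟩ := hsec F hF2
  obtain ⟨s', hsF', hs'⟩ := hsec F' hF2'
  have hfF : ∀ x ∈ F₁, f x ∈ F := fun x hx => by
    have : f x ∈ F ⊓ LinearMap.range f := by rw [hF1]; exact ⟨x, hx, rfl⟩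
    exact this.1
  have hfF' : ∀ x ∈ F₁, f x ∈ F' := fun x hx => by
    have : f x ∈ F' ⊓ LinearMap.range f := by rw [hF1']; exact ⟨x, hx, rfl⟩
    exact this.1
  -- `H₁` is a direct summand
  obtain ⟨t, ht⟩ := Module.projective_lifting_property g LinearMap.id hg
  have ht' : ∀ y, g (t y) = y := fun y => LinearMap.congr_fun ht y
  have hcompl : IsCompl (LinearMap.range f) (LinearMap.range t) := by
    constructor
    · rw [Submodule.disjoint_def]
      rintro _ ⟨a, rfl⟩ ⟨b, hb⟩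
      have h3 := congrArg g hb
      rw [ht', hfg.apply_apply_eq_zero] at h3
      rw [← hb, h3, map_zero]
    · rw [codisjoint_iff, eq_top_iff]
      intro x _
      have h3 : g (x - t (g x)) = 0 := by rw [map_sub, ht', sub_self]
      obtain ⟨z, hz⟩ := (hfg _).mp h3
      have h4 : x = f z + t (g x) := by rw [hz]; abel
      rw [h4]
      exact Submodule.add_mem_sup ⟨z, rfl⟩ ⟨_, rfl⟩
  -- the difference of the sections
  have hδ : ∀ y, ∃ z, f z = s' y - s y := fun y =>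
    (hfg _).mp (by rw [map_sub, hs, hs', sub_self])
  let δ : F₂ →ₗ[R] H₁ := (LinearEquiv.ofInjective f hf).symm.toLinearMap ∘ₗ
    ((s' - s).codRestrict (LinearMap.range f) hδ)
  have hδf : ∀ y, f (δ y) = s' y - s y := by
    intro y
    have h3 := (LinearEquiv.ofInjective f hf).apply_symm_apply
      ((s' - s).codRestrict (LinearMap.range f) hδ y)
    exact congrArg Subtype.val h3
  have hδmem : ∀ y, δ y ∈ F₁ ⊔ 𝔫 • (⊤ : Submodule R H₁) := by
    intro y
    have h3 : f (δ y) ∈ G ⊓ (LinearMap.range f ⊔ 𝔫 • (⊤ : Submodule R H)) := by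
      refine ⟨?_, Submodule.mem_sup_left ⟨_, rfl⟩⟩
      rw [hδf]
      refine G.sub_mem ?_ ?_
      · rw [← hFG']; exact Submodule.mem_sup_left (hsF' y)
      · rw [← hFG]; exact Submodule.mem_sup_left (hsF y)
    rw [h1] at h3
    obtain ⟨_, ⟨x₁, hx₁, rfl⟩, n, hn, hxn⟩ := Submodule.mem_sup.mp h3
    have h4 : n = f (δ y - x₁) := by rw [map_sub, ← hxn]; abel
    have h5 : n ∈ 𝔫 • LinearMap.range f := mem_smul_of_isCompl hcompl ⟨_, h4.symm⟩ hn
    rw [← Submodule.map_top, ← Submodule.map_smul''] at h5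
    obtain ⟨n', hn', hn''⟩ := h5
    have h6 : n' = δ y - x₁ := hf (hn''.trans h4)
    have h7 : δ y = x₁ + n' := by rw [h6]; abel
    rw [h7]
    exact Submodule.add_mem_sup hx₁ hn'
  -- split `δ = ε + η`
  let q : (F₁ × (𝔫 • (⊤ : Submodule R H₁) : Submodule R H₁)) →ₗ[R]
      (F₁ ⊔ 𝔫 • (⊤ : Submodule R H₁) : Submodule R H₁) :=
    (F₁.subtype.coprod (𝔫 • (⊤ : Submodule R H₁) : Submodule R H₁).subtype).codRestrict _
      (fun x => Submodule.add_mem_sup x.1.2 x.2.2)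
  have hq : Function.Surjective q := by
    rintro ⟨x, hx⟩
    obtain ⟨a, ha, b, hb, rfl⟩ := Submodule.mem_sup.mp hx
    exact ⟨(⟨a, ha⟩, ⟨b, hb⟩), rfl⟩
  obtain ⟨w, hw⟩ := Module.projective_lifting_property q (δ.codRestrict _ hδmem) hq
  have hw' : ∀ y, ((w y).1 : H₁) + ((w y).2 : H₁) = δ y := fun y =>
    congrArg Subtype.val (LinearMap.congr_fun hw y)
  let η : F₂ →ₗ[R] H₁ := (𝔫 • (⊤ : Submodule R H₁) : Submodule R H₁).subtype ∘ₗ
    LinearMap.snd R _ _ ∘ₗ w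
  let u : H₂ →ₗ[R] H₁ := η ∘ₗ F₂.projectionOnto C₂ hC₂
  have hu : ∀ y : F₂, u y = (w y).2 := by
    intro y
    have : F₂.projectionOnto C₂ hC₂ y = y := Submodule.projectionOnto_apply_left hC₂ y
    change η (F₂.projectionOnto C₂ hC₂ y) = _
    rw [this]
    rfl
  refine ⟨u, fun y => ((w (F₂.projectionOnto C₂ hC₂ y)).2).2, ?_⟩
  rw [map_Phi hfg]
  apply le_antisymm
  · intro x' hx'
    have hy : g x' ∈ F₂ := by rw [← hF2']; exact ⟨x', hx', rfl⟩
    set y : F₂ := ⟨g x', hy⟩ with hydef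
    have h3 : x' - s' y ∈ F' ⊓ LinearMap.range f := by
      refine ⟨F'.sub_mem hx' (hsF' y), (hfg _).mp ?_⟩
      rw [map_sub, hs', sub_self]
    rw [hF1'] at h3
    obtain ⟨z, hz, hz'⟩ := h3
    refine ⟨s y + f (z + (w y).1), F.add_mem (hsF y) (hfF _ (F₁.add_mem hz (w y).1.2)), ?_⟩
    change Phi f g hfg u _ = _
    have hgx : g (s y + f (z + (w y).1)) = y := by
      rw [map_add, hs, hfg.apply_apply_eq_zero, add_zero]
    rw [Phi_apply, hgx, hu, map_add, hz']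
    have h4 : f (w y).1 + f (w y).2 = s' y - s y := by rw [← map_add, hw', hδf]
    have h5 : s y + (x' - s' y + f (w y).1) + f (w y).2 =
      s y + (x' - s' y) + (f (w y).1 + f (w y).2) := by abel
    rw [h5, h4]
    abel
  · rintro _ ⟨x, hx, rfl⟩
    have hy : g x ∈ F₂ := by rw [← hF2]; exact ⟨x, hx, rfl⟩
    set y : F₂ := ⟨g x, hy⟩ with hydef
    have h3 : x - s y ∈ F ⊓ LinearMap.range f := by
      refine ⟨F.sub_mem hx (hsF y), (hfg _).mp ?_⟩
      rw [map_sub, hs, sub_self]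
    rw [hF1] at h3
    obtain ⟨z, hz, hz'⟩ := h3
    change Phi f g hfg u x ∈ F'
    rw [Phi_apply]
    have hu' : u (g x) = (w y).2 := hu y
    rw [hu']
    have h4 : f (w y).1 + f (w y).2 = s' y - s y := by rw [← map_add, hw', hδf]
    have h5 : x + f (w y).2 = f z + s' y - f (w y).1 := by
      have h6 : f (w y).2 = s' y - s y - f (w y).1 := by rw [← h4]; abel
      rw [h6, hz']; abel
    rw [h5]
    exact F'.sub_mem (F'.add_mem (hfF' _ hz) (hsF' y)) (hfF' _ (w y).1.2)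

end K90.SummandTorsor
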