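import Mathlib.RingTheory.Flat.Basic
import Mathlib.LinearAlgebra.TensorProduct.RightExactness
import Mathlib.RingTheory.Ideal.Maps

/-!
# `Tor₁(R/m, A/J) = 0` from `J ∩ mA = mJ`
-/

set_option autoImplicit false
universe u v

namespace K90.TorQuot

open TensorProduct

variable {R : Type u} {A : Type v} [CommRing R] [CommRing A] [Algebra R A]

/-- the multiplication `𝔪 ⊗ A → A`. -/
noncomputable def mu (m : Ideal R) : m ⊗[R] A →ₗ[R] A :=
  (TensorProduct.lid R A).toLinearMap ∘ₗ m.subtype.rTensor A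

theorem mu_tmul (m : Ideal R) (x : m) (a : A) : mu m (x ⊗ₜ[R] a) = (x : R) • a := by
  simp [mu]

theorem range_mu (m : Ideal R) (x : A) (hx : x ∈ m.map (algebraMap R A)) :
    ∃ z : m ⊗[R] A, mu m z = x := by
  refine Submodule.span_induction (p := fun x _ => ∃ z : m ⊗[R] A, mu m z = x) ?_ ?_ ?_ ?_ hx
  · rintro _ ⟨r, hr, rfl⟩
    exact ⟨⟨r, hr⟩ ⊗ₜ 1, by rw [mu_tmul, Algebra.algebraMap_eq_smul_one]⟩
  · exact ⟨0, map_zero _⟩
  · rintro _ _ _ _ ⟨z, rfl⟩ ⟨w, rfl⟩
    exact ⟨z + w, map_add _ _ _⟩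
  · rintro a y hy ⟨z, hz⟩
    refine ⟨(Algebra.lsmul R R A a).lTensor m z, ?_⟩
    rw [← hz]
    clear hz hy hx
    induction z with
    | zero => simp
    | tmul y b =>
      rw [LinearMap.lTensor_tmul, mu_tmul, mu_tmul]
      change (y : R) • (a * b) = a * ((y : R) • b)
      rw [mul_smul_comm]
    | add y z hy hz => rw [map_add, map_add, map_add, hy, hz, smul_add]

theorem range_mu_mul (m : Ideal R) (J : Ideal A) (x : A) (hx : x ∈ m.map (algebraMap R A) * J) :
    ∃ z : m ⊗[R] (J.restrictScalars R), mu m ((J.restrictScalars R).subtype.lTensor m z) = x := by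
  refine Submodule.mul_induction_on hx ?_ ?_
  · intro y hy j hj
    obtain ⟨w, rfl⟩ := range_mu m y hy
    clear hy hx
    let φ : A →ₗ[R] (J.restrictScalars R) :=
      { toFun := fun a => ⟨a * j, J.mul_mem_left _ hj⟩
        map_add' := fun a b => by ext; exact add_mul _ _ _
        map_smul' := fun r a => by ext; exact smul_mul_assoc _ _ _ }
    refine ⟨φ.lTensor m w, ?_⟩
    induction w with
    | zero => simp
    | tmul y b =>
      rw [LinearMap.lTensor_tmul, LinearMap.lTensor_tmul, mu_tmul, mu_tmul, smul_mul_assoc]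
      rfl
    | add y z hy hz => rw [map_add, map_add, map_add, map_add, hy, hz, add_mul]
  · rintro _ _ ⟨z, rfl⟩ ⟨w, rfl⟩
    exact ⟨z + w, by rw [map_add, map_add]⟩

theorem rTensor_injective [Module.Flat R A] (m : Ideal R) (J : Ideal A)
    (h : ∀ x ∈ J, x ∈ m.map (algebraMap R A) → x ∈ m.map (algebraMap R A) * J) :
    Function.Injective (LinearMap.rTensor (A ⧸ J) (Submodule.subtype m)) := by
  rw [injective_iff_map_eq_zero]
  intro z hz
  let q : A →ₗ[R] A ⧸ J := (Ideal.Quotient.mkₐ R J).toLinearMap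
  have hq : Function.Surjective q := Ideal.Quotient.mk_surjective
  obtain ⟨z', rfl⟩ := LinearMap.lTensor_surjective m hq z
  have hmu : Function.Injective (mu (A := A) m) := by
    refine (TensorProduct.lid R A).injective.comp ?_
    exact Module.Flat.rTensor_preserves_injective_linearMap _ (Submodule.subtype_injective m)
  -- compatibility of multiplications
  have hcomp : ∀ w : m ⊗[R] A, q (mu m w) =
      TensorProduct.lid R (A ⧸ J) (LinearMap.rTensor (A ⧸ J) (Submodule.subtype m)
        (q.lTensor m w)) := by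
    intro w
    induction w with
    | zero => simp
    | tmul y b => simp [mu_tmul]
    | add y z hy hz => simp only [map_add, hy, hz]
  have h1 : q (mu m z') = 0 := by rw [hcomp, hz, map_zero]
  have h2 : mu m z' ∈ J := Ideal.Quotient.eq_zero_iff_mem.mp h1
  have h3 : ∀ w : m ⊗[R] A, mu m w ∈ m.map (algebraMap R A) := by
    intro w
    induction w with
    | zero => rw [map_zero]; exact Ideal.zero_mem _
    | tmul y b =>
      rw [mu_tmul, Algebra.smul_def]
      exact Ideal.mul_mem_right _ _ (Ideal.mem_map_of_mem _ y.2)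
    | add y z hy hz => rw [map_add]; exact Ideal.add_mem _ hy hz
  obtain ⟨w, hw⟩ := range_mu_mul m J _ (h _ h2 (h3 z'))
  have h4 := hmu hw
  rw [← h4]
  have h5 : q ∘ₗ (J.restrictScalars R).subtype = 0 := by
    ext x
    exact Ideal.Quotient.eq_zero_iff_mem.mpr x.2
  rw [← LinearMap.comp_apply, ← LinearMap.lTensor_comp, h5]
  simp

end K90.TorQuot
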