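import Groth.Agent.CycA.ChiRec2
import Mathlib.RingTheory.Regular.RegularSequence
import Mathlib.LinearAlgebra.TensorProduct.Quotient

/-!
# Regular sequences and vanishing of Tor

`A` a Noetherian local ring, `rs` a regular sequence on `A` in the maximal ideal: for a finite module `M`,
`rs` is regular on `M` iff `Tor_i(A/(rs), M) = 0` for all `i ≥ 1`.
-/

set_option autoImplicit false
universe u

namespace K90.TorReg

open IsLocalRing RingTheory.Sequence TensorProduct Groth.Agent.CycA.ChiRec
  Groth.Agent.CycA.ChiRec2 Groth.Agent.CycA.TorBasic Groth.Agent.CycA.TorShift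

variable {A : Type u} [CommRing A]

theorem step [IsLocalRing A] [IsNoetherianRing A] (I : Ideal A) (x : A) (hxm : x ∈ maximalIdeal A)
    (hreg : ∀ y, x * y ∈ I → y ∈ I) (M : Type u) [AddCommGroup M] [Module A M] [Module.Finite A M] :
    (∀ i, Subsingleton (DRing.Tor A (i + 1) (A ⧸ (I ⊔ Ideal.span {x})) M)) ↔
      (∀ i, Subsingleton (DRing.Tor A (i + 1) (A ⧸ I) M)) ∧
        IsSMulRegular (M ⧸ (I • ⊤ : Submodule A M)) x := by
  obtain ⟨δ, h1, h2, h3, h4⟩ := les_fst _ _ (injective_smul_id hreg)
    (Submodule.factor_surjective (le_sup_left : I ≤ I ⊔ Ideal.span {x}))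
    (exact_smul_factor I x) M
  have hsm : ∀ i, mapL (x • LinearMap.id : (A ⧸ I) →ₗ[A] (A ⧸ I)) i M = x • LinearMap.id :=
    fun i => mapL_smul_id x _ i M
  have hequiv : IsSMulRegular (M ⧸ (I • ⊤ : Submodule A M)) x ↔
      ∀ z : DRing.Tor A 0 (A ⧸ I) M, x • z = 0 → z = 0 := by
    let e : DRing.Tor A 0 (A ⧸ I) M ≃ₗ[A] (M ⧸ (I • ⊤ : Submodule A M)) :=
      (zeroEquiv A (A ⧸ I) M).trans (quotTensorEquivQuotSMul M I)
    rw [← e.isSMulRegular_congr x, isSMulRegular_iff_right_eq_zero_of_smul]
  rw [hequiv]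
  constructor
  · intro h
    refine ⟨fun i => ?_, fun z hz => ?_⟩
    · have hfin : Module.Finite A (DRing.Tor A (i + 1) (A ⧸ I) M) := tor_finite (i + 1) _ _
      have hle : (⊤ : Submodule A (DRing.Tor A (i + 1) (A ⧸ I) M)) ≤ ⊥ := by
        refine Submodule.le_of_le_smul_of_le_jacobson_bot (I := Ideal.span {x})
          Module.Finite.fg_top ?_ ?_
        · rw [jacobson_eq_maximalIdeal ⊥ bot_ne_top, Ideal.span_singleton_le_iff_mem]
          exact hxm
        · intro z _
          have hsub := h i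
          obtain ⟨w, hw⟩ := (h1 (i + 1) z).mp (Subsingleton.elim _ _)
          rw [hsm] at hw
          rw [bot_sup_eq, ← hw]
          exact Submodule.smul_mem_smul (Ideal.mem_span_singleton_self x) trivial
      refine ⟨fun a b => ?_⟩
      have ha : a = 0 := hle trivial
      have hb : b = 0 := hle trivial
      rw [ha, hb]
    · obtain ⟨w, hw⟩ := (h3 0 z).mp (by rw [hsm]; exact hz)
      rw [← hw, (h 0).elim w 0, map_zero]
  · rintro ⟨h, h'⟩ i
    have key : ∀ c : DRing.Tor A (i + 1) (A ⧸ (I ⊔ Ideal.span {x})) M, δ i c = 0 → c = 0 := by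
      intro c hc
      obtain ⟨c', rfl⟩ := (h2 i c).mp hc
      rw [(h i).elim c' 0, map_zero]
    have key2 : ∀ c : DRing.Tor A (i + 1) (A ⧸ (I ⊔ Ideal.span {x})) M, δ i c = 0 := by
      intro c
      cases i with
      | zero =>
        apply h'
        have := (h3 0 (δ 0 c)).mpr ⟨c, rfl⟩
        rw [hsm] at this
        exact this
      | succ i => exact (h i).elim _ _
    refine ⟨fun a b => ?_⟩
    rw [key a (key2 a), key b (key2 b)]

theorem weaklyRegular_concat (M : Type u) [AddCommGroup M] [Module A M] (rs : List A) (x : A) :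
    IsWeaklyRegular M (rs ++ [x]) ↔
      IsWeaklyRegular M rs ∧ IsSMulRegular (M ⧸ (Ideal.ofList rs • ⊤ : Submodule A M)) x := by
  rw [isWeaklyRegular_append_iff, isWeaklyRegular_cons_iff]
  simp

theorem main [IsLocalRing A] [IsNoetherianRing A] (rs : List A) :
    (∀ r ∈ rs, r ∈ maximalIdeal A) → IsWeaklyRegular A rs →
    ∀ (M : Type u) [AddCommGroup M] [Module A M] [Module.Finite A M],
    (∀ i, Subsingleton (DRing.Tor A (i + 1) (A ⧸ Ideal.ofList rs) M)) ↔ IsWeaklyRegular M rs := by
  induction rs using List.reverseRecOn with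
  | nil =>
    intro _ _ M _ _ _
    simp only [IsWeaklyRegular.nil, iff_true]
    have : Module.Flat A (A ⧸ Ideal.ofList ([] : List A)) :=
      Module.Flat.of_linearEquiv (Submodule.quotEquivOfEqBot (Ideal.ofList ([] : List A)) (by simp))
    intro i
    exact subsingleton_of_flat_left A i (A ⧸ Ideal.ofList ([] : List A)) M
  | append_singleton rs x ih =>
    intro hm hreg M _ _ _
    rw [weaklyRegular_concat] at hreg ⊢
    have hm' : ∀ r ∈ rs, r ∈ maximalIdeal A := fun r hr => hm r (by simp [hr])
    have hreg' : ∀ y, x * y ∈ Ideal.ofList rs → y ∈ Ideal.ofList rs := by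
      intro y hy
      have h1 := hreg.2
      rw [isSMulRegular_iff_right_eq_zero_of_smul] at h1
      have h2 := h1 (Submodule.Quotient.mk y) (by
        rw [← Submodule.Quotient.mk_smul, Submodule.Quotient.mk_eq_zero]
        simpa using hy)
      rw [Submodule.Quotient.mk_eq_zero] at h2
      simpa using h2
    have h3 := step (Ideal.ofList rs) x (hm x (by simp)) hreg' M
    rw [ih hm' hreg.1 M] at h3
    rw [Ideal.ofList_append, Ideal.ofList_singleton]
    exact h3

end K90.TorReg
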